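import Groth.Agent.ModPairLib.Basic
import Groth.Prelude.Def_BlowUp2
import Mathlib.AlgebraicGeometry.Noetherian

/-! Stalks of ideal sheaves. -/

set_option autoImplicit false
set_option backward.isDefEq.respectTransparency false
set_option backward.isDefEq.respectTransparency.types false
set_option linter.style.haveILetI false
universe u

open CategoryTheory CategoryTheory.Limits AlgebraicGeometry TopologicalSpace Opposite

noncomputable section

namespace Groth.Agent.Div21Lib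

variable {X Y : Scheme.{u}}

/-- The stalk of an ideal sheaf. -/
def stI (J : X.IdealSheafData) (x : X) : Ideal (X.presheaf.stalk x) :=
  ⨆ U : {U : X.affineOpens // x ∈ U.1}, (J.ideal U.1).map (X.presheaf.germ U.1.1 x U.2).hom

theorem map_germ_le_of_le (J : X.IdealSheafData) {U V : X.affineOpens} (h : V ≤ U) {x : X} (hx : x ∈ V.1) :
    (J.ideal V).map (X.presheaf.germ V.1 x hx).hom = (J.ideal U).map (X.presheaf.germ U.1 x (h hx)).hom := by
  rw [← J.map_ideal h, Ideal.map_map, ← CommRingCat.hom_comp]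
  exact congrArg (fun φ => Ideal.map (CommRingCat.Hom.hom φ) (J.ideal U)) (X.presheaf.germ_res (homOfLE h) x hx)

theorem map_germ_eq (J : X.IdealSheafData) (U V : X.affineOpens) {x : X} (hU : x ∈ U.1) (hV : x ∈ V.1) :
    (J.ideal U).map (X.presheaf.germ U.1 x hU).hom = (J.ideal V).map (X.presheaf.germ V.1 x hV).hom := by
  obtain ⟨W, hW, hxW, hsub⟩ := exists_isAffineOpen_mem_and_subset (x := x) (U := U.1 ⊓ V.1) ⟨hU, hV⟩
  rw [← map_germ_le_of_le J (V := ⟨W, hW⟩) (U := U) (fun z hz => (hsub hz).1) hxW,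
    ← map_germ_le_of_le J (V := ⟨W, hW⟩) (U := V) (fun z hz => (hsub hz).2) hxW]

theorem stI_eq (J : X.IdealSheafData) (U : X.affineOpens) {x : X} (hU : x ∈ U.1) :
    stI J x = (J.ideal U).map (X.presheaf.germ U.1 x hU).hom :=
  le_antisymm (iSup_le fun V => (map_germ_eq J V.1 U V.2 hU).le)
    (le_iSup (fun V : {V : X.affineOpens // x ∈ V.1} => (J.ideal V.1).map (X.presheaf.germ V.1.1 x V.2).hom) ⟨U, hU⟩)

theorem stI_comap (I : Y.IdealSheafData) (f : X ⟶ Y) (x : X) :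
    stI (I.comap f) x = (stI I (f x)).map (f.stalkMap x).hom := by
  obtain ⟨U, hU, hxU, -⟩ := exists_isAffineOpen_mem_and_subset (x := f x) (U := ⊤) trivial
  obtain ⟨V, hV, hxV, hVU⟩ := exists_isAffineOpen_mem_and_subset (x := x) (U := f ⁻¹ᵁ U) hxU
  rw [stI_eq (I.comap f) ⟨V, hV⟩ hxV, stI_eq I ⟨U, hU⟩ hxU, ModPairLib.ideal_comap I f ⟨U, hU⟩ ⟨V, hV⟩ hVU,
    Ideal.map_map, Ideal.map_map, ← CommRingCat.hom_comp, ← CommRingCat.hom_comp]
  congr 2
  rw [Scheme.Hom.germ_stalkMap, Scheme.Hom.appLE, Category.assoc, TopCat.Presheaf.germ_res]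

theorem stI_generize (J : X.IdealSheafData) {x' x : X} (h : x' ⤳ x) :
    (stI J x).map (X.presheaf.stalkSpecializes h).hom = stI J x' := by
  obtain ⟨U, hU, hxU, -⟩ := exists_isAffineOpen_mem_and_subset (x := x) (U := ⊤) trivial
  rw [stI_eq J ⟨U, hU⟩ hxU, stI_eq J ⟨U, hU⟩ (h.mem_open U.isOpen hxU), Ideal.map_map, ← CommRingCat.hom_comp,
    TopCat.Presheaf.germ_stalkSpecializes]

theorem mem_ideal_of_germ (J : X.IdealSheafData) (U : X.affineOpens) (s : Γ(X, U.1))
    (h : ∀ (x : X) (hx : x ∈ U.1), X.presheaf.germ U.1 x hx s ∈ stI J x) : s ∈ J.ideal U := by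
  by_contra hs
  have hne : (J.ideal U).colon ({s} : Set Γ(X, U.1)) ≠ ⊤ := fun h1 => hs (by
    have h2 : (1 : Γ(X, U.1)) ∈ (J.ideal U).colon ({s} : Set Γ(X, U.1)) := by rw [h1]; exact Submodule.mem_top
    simpa [Submodule.mem_colon_singleton] using h2)
  obtain ⟨M, hM, hle⟩ := Ideal.exists_le_maximal _ hne
  haveI := hM.isPrime
  let p : Spec Γ(X, U.1) := (⟨M, inferInstance⟩ : PrimeSpectrum Γ(X, U.1))
  have hx : U.2.fromSpec p ∈ U.1 := by
    have : U.2.fromSpec p ∈ Set.range U.2.fromSpec := ⟨p, rfl⟩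
    rwa [U.2.range_fromSpec] at this
  have h1 := h _ hx
  rw [stI_eq J U hx] at h1
  letI : Algebra Γ(X, U.1) (X.presheaf.stalk (U.2.fromSpec p)) := (X.presheaf.germ U.1 _ hx).hom.toAlgebra
  haveI : IsLocalization.AtPrime (X.presheaf.stalk (U.2.fromSpec p)) M := U.2.isLocalization_stalk' _ hx
  obtain ⟨⟨⟨i, hi⟩, ⟨t, ht⟩⟩, he⟩ := (IsLocalization.mem_map_algebraMap_iff M.primeCompl _).1 h1
  change algebraMap Γ(X, U.1) _ s * algebraMap Γ(X, U.1) _ t = algebraMap Γ(X, U.1) _ i at he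
  rw [← map_mul] at he
  obtain ⟨⟨c, hc⟩, hcst⟩ := (IsLocalization.eq_iff_exists M.primeCompl _).1 he
  refine M.primeCompl.mul_mem hc ht (hle ?_)
  rw [Submodule.mem_colon_singleton, smul_eq_mul, mul_assoc, mul_comm t s]
  exact (show c * (s * t) = c * i from hcst) ▸ Ideal.mul_mem_left _ c hi

theorem germ_mem_stI (J : X.IdealSheafData) (U : X.affineOpens) {s : Γ(X, U.1)} (hs : s ∈ J.ideal U) {x : X}
    (hx : x ∈ U.1) : X.presheaf.germ U.1 x hx s ∈ stI J x := by
  rw [stI_eq J U hx]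
  exact Ideal.mem_map_of_mem _ hs

theorem ext_of_stI {I J : X.IdealSheafData} (h : ∀ x, stI I x = stI J x) : I = J :=
  Scheme.IdealSheafData.ext (funext fun U => le_antisymm
    (fun s hs => mem_ideal_of_germ J U s fun x hx => (h x).le (germ_mem_stI I U hs hx))
    fun s hs => mem_ideal_of_germ I U s fun x hx => (h x).ge (germ_mem_stI J U hs hx))

theorem exists_stI_generator {J : X.IdealSheafData} (hJ : BlowUp.IsEffCartierIdeal J) (x : X) :
    ∃ g ∈ nonZeroDivisors (X.presheaf.stalk x), stI J x = Ideal.span {g} := by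
  obtain ⟨U, hxU, a, ha, hU⟩ := hJ x
  let p := (U.2.primeIdealOf ⟨x, hxU⟩).asIdeal
  let _ := X.presheaf.algebra_section_stalk (⟨x, hxU⟩ : U.1)
  have : IsLocalization.AtPrime (X.presheaf.stalk x) p := U.2.isLocalization_stalk ⟨x, hxU⟩
  refine ⟨X.presheaf.germ U.1 x hxU a, IsLocalization.map_nonZeroDivisors_le p.primeCompl _ ⟨a, ha, rfl⟩, ?_⟩
  rw [stI_eq J U hxU, hU, Ideal.map_span, Set.image_singleton]

end Groth.Agent.Div21Lib
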