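import Groth.Agent.Ref1X.Class
import Groth.Agent.Ref1X.OD2
import Groth.Agent.AmpleVan.Mul

/-! Invertible modules on normal integral schemes as rank one reflexive modules. -/

set_option autoImplicit false
set_option backward.isDefEq.respectTransparency false
set_option backward.isDefEq.respectTransparency.types false
set_option linter.style.haveILetI false
universe u

open CategoryTheory AlgebraicGeometry TopologicalSpace

namespace Groth.Agent.Div21Lib

variable {X : Scheme.{u}} [IsIntegral X] [IsLocallyNoetherian X]

theorem exists_gen_of_invertible {L : X.Modules} (hL : PicF.IsInvertible L) (x : X) :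
    ∃ t : L.presheaf.stalk x, Ref1X.IsGen t := by
  obtain ⟨U, hx, e, he⟩ := InvX.exists_frame hL x
  exact ⟨_, Ref1X.IsGen.of_frame he hx⟩

theorem isRef1_of_invertible {L : X.Modules} (hL : PicF.IsInvertible L) : RefHull.IsRef1 L := by
  have hc := AmpleVan.isCoh_invertible hL
  refine ⟨hc, (RefX.isReflexive_iff hc).2 fun x => ?_, ?_⟩
  · obtain ⟨t, ht⟩ := exists_gen_of_invertible hL x
    exact Module.equiv (LinearEquiv.ofBijective (LinearMap.toSpanSingleton (X.presheaf.stalk x) _ t) ht)
  · obtain ⟨U, hx, e, he⟩ := InvX.exists_frame hL (genericPoint X)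
    exact Ref1X.genInvertible_of_frame hx he

/-- An invertible module whose rational section has the divisor of a function is trivial. -/
theorem trivial_of_ord (hX : Pi1.IsNormalScheme X) {L : X.Modules} (hL : PicF.IsInvertible L)
    {s : L.presheaf.stalk (genericPoint X)} (hs : s ≠ 0) {f : X.functionField} (hf : f ≠ 0)
    (h : ∀ x : X, Order.coheight x = 1 → Ref1X.ordF L s x = Scheme.ord f x) :
    Nonempty (L ≅ Coh.structureModule X) := by
  have h1 : RefX.unitStalk (genericPoint X) 1 ≠ 0 := fun h0 =>
    one_ne_zero (α := X.functionField) ((RefX.unitStalk (genericPoint X)).injective (h0.trans (map_zero _).symm))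
  refine Ref1X.iso_of_ord hX (isRef1_of_invertible hL) Ref1X.isRef1_unit hs
    (t := (f : X.presheaf.stalk (genericPoint X)) • RefX.unitStalk (genericPoint X) 1) (fun h0 => ?_) fun x hx => ?_
  · refine hf ?_
    rw [← map_smul, smul_eq_mul, mul_one] at h0
    exact (RefX.unitStalk (genericPoint X)).injective (h0.trans (map_zero _).symm)
  · rw [h x hx, Ref1X.ordF_smul hX Ref1X.isRef1_unit hx h1 hf, Ref1X.ordF_unit hx, add_zero]

end Groth.Agent.Div21Lib
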