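import Groth.Agent.Div21Lib.Global
import Groth.Agent.ParaFX.Ufd
import Groth.Agent.CDiv6.Normal
import Groth.Agent.FlatDvr.FibreStalk
import Groth.Prelude.Def_Pi1

/-! Descent of divisors to a normal base. -/

set_option autoImplicit false
set_option backward.isDefEq.respectTransparency false
set_option backward.isDefEq.respectTransparency.types false
set_option linter.style.haveILetI false
universe u

open CategoryTheory CategoryTheory.Limits AlgebraicGeometry TopologicalSpace IsLocalRing

noncomputable section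

namespace Groth.Agent.Div21Lib

variable {X Y : Scheme.{u}}

theorem stI_top (x : X) : stI (⊤ : X.IdealSheafData) x = ⊤ := by
  obtain ⟨U, hU, hxU, -⟩ := exists_isAffineOpen_mem_and_subset (x := x) (U := ⊤) trivial
  rw [stI_eq _ ⟨U, hU⟩ hxU]
  exact Ideal.map_top _

theorem eq_of_pow_span_eq {A : Type*} [CommRing A] {a : A} (ha : a ∈ nonZeroDivisors A) (hu : ¬ IsUnit a) :
    ∀ {k l : ℕ}, Ideal.span {a ^ k} = Ideal.span {a ^ l} → k = l := by
  suffices h : ∀ {k l : ℕ}, k < l → Ideal.span {a ^ k} ≠ Ideal.span {a ^ l} by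
    intro k l he
    rcases lt_trichotomy k l with h' | h' | h'
    · exact absurd he (h h')
    · exact h'
    · exact absurd he.symm (h h')
  intro k l hkl he
  obtain ⟨d, rfl⟩ : ∃ d, l = k + (d + 1) := ⟨l - k - 1, by omega⟩
  obtain ⟨c, hc⟩ := Ideal.span_singleton_le_span_singleton.1 he.le
  have h1 : a ^ k * 1 = a ^ k * (a * (a ^ d * c)) := by
    rw [mul_one]
    conv_lhs => rw [hc]
    ring
  exact hu (.of_mul_eq_one _ ((mul_cancel_left_mem_nonZeroDivisors ((nonZeroDivisors A).pow_mem ha k)).1 h1).symm)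

/-- A regular divisor of a power of a prime regular element is associated with a power of it. -/
theorem exists_span_eq_pow {B : Type*} [CommRing B] {π : B} (hπ : (Ideal.span {π}).IsPrime)
    (hreg : π ∈ nonZeroDivisors B) :
    ∀ (n : ℕ) {g : B}, g ∣ π ^ n → ∃ k : ℕ, Ideal.span {g} = Ideal.span {π ^ k}
  | 0, g, ⟨h, hh⟩ => ⟨0, by
      rw [pow_zero, Ideal.span_singleton_one, Ideal.span_singleton_eq_top]
      exact IsUnit.of_mul_eq_one h (by rw [← hh, pow_zero])⟩
  | n + 1, g, ⟨h, hh⟩ => by
    have hmem : g * h ∈ Ideal.span {π} := Ideal.mem_span_singleton.2 ⟨π ^ n, by rw [← hh, pow_succ']⟩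
    rcases hπ.mem_or_mem hmem with hg | hh'
    · obtain ⟨g', rfl⟩ := Ideal.mem_span_singleton.1 hg
      obtain ⟨k, hk⟩ := exists_span_eq_pow hπ hreg n (g := g') ⟨h, (mul_cancel_left_mem_nonZeroDivisors hreg).1
        (by rw [← pow_succ', hh, mul_assoc])⟩
      exact ⟨k + 1, by rw [pow_succ', ← Ideal.span_singleton_mul_span_singleton, hk,
        Ideal.span_singleton_mul_span_singleton]⟩
    · obtain ⟨h', rfl⟩ := Ideal.mem_span_singleton.1 hh'
      exact exists_span_eq_pow hπ hreg n ⟨h', (mul_cancel_left_mem_nonZeroDivisors hreg).1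
        (by rw [← pow_succ', hh, mul_left_comm])⟩

variable (f : X ⟶ Y) (J : X.IdealSheafData)

/-- The trace of `J` on the fibre over a point is trivial iff all its stalks over that point are. -/
theorem stI_eq_top_of_fibre {y : Y} (h : J.comap (f.fiberι y) = ⊤) {x : X} (hx : f x = y) :
    stI J x = ⊤ := by
  obtain ⟨w, rfl⟩ : x ∈ Set.range (f.fiberι y) := by rw [f.range_fiberι]; exact hx
  by_contra hne
  have h1 := congrArg (fun K => stI K w) h
  simp only [stI_comap, stI_top] at h1
  have h2 : (stI J (f.fiberι y w)).map ((f.fiberι y).stalkMap w).hom ≤ maximalIdeal _ :=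
    Ideal.map_le_iff_le_comap.2 fun a ha => (IsLocalRing.mem_maximalIdeal _).2 fun hu =>
      IsLocalRing.le_maximalIdeal hne ha (isUnit_of_map_unit ((f.fiberι y).stalkMap w).hom a hu)
  exact Ideal.IsPrime.ne_top (inferInstance : (maximalIdeal _).IsPrime) (top_le_iff.1 (h1.symm.le.trans h2))

theorem map_maximalIdeal_gm {x : X} {y : Y} (hx : f x = y) :
    (maximalIdeal (Y.presheaf.stalk (f x))).map (f.stalkMap x).hom =
      (maximalIdeal (Y.presheaf.stalk y)).map (gm f (specializes_of_eq hx)) := by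
  subst hx
  rw [gm_refl]

variable [IsLocallyNoetherian Y] (hY : Pi1.IsNormalScheme Y)

include hY in
theorem dim_le_one_of_depth (y : Y) (h : LocCoh.depth (Y.presheaf.stalk y) (Y.presheaf.stalk y) ≤ 1) :
    ringKrullDim (Y.presheaf.stalk y) = 0 ∨ ringKrullDim (Y.presheaf.stalk y) = 1 := by
  haveI := (hY y).1
  haveI := (hY y).2
  have h2 : ¬ (2 : WithBot ℕ∞) ≤ ringKrullDim (Y.presheaf.stalk y) := fun h2 =>
    absurd ((ParaFX.two_le_depth_of_normal _ h2).trans h) (by decide)
  have h0 := ringKrullDim_nonneg_of_nontrivial (R := Y.presheaf.stalk y)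
  generalize ringKrullDim (Y.presheaf.stalk y) = d at h2 h0
  induction d with
  | bot => simp at h0
  | coe d =>
    rw [not_le] at h2
    have h3 : d < 2 := WithBot.coe_lt_coe.1 h2
    induction d with
    | top => exact absurd h3 (by simp)
    | coe d =>
      have h4 : d < 2 := WithTop.coe_lt_coe.1 h3
      rcases d with _ | _ | d
      · exact Or.inl rfl
      · exact Or.inr rfl
      · omega

theorem maximal_of_dim_zero {η : Y} (h : ringKrullDim (Y.presheaf.stalk η) = 0) (z : Y) (hz : z ⤳ η) :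
    z = η := by
  by_contra hne
  have h1 := ringKrullDim_stalk_lt hz hne
  rw [h] at h1
  exact absurd (ringKrullDim_nonneg_of_nontrivial (R := Y.presheaf.stalk z)) (not_le.2 h1)

include hY in
/-- A descended divisor is trivial on the fibres over maximal points. -/
theorem comap_fiberι_eq_top {K : Y.IdealSheafData} (hK : BlowUp.IsEffCartierIdeal K) (hKJ : K.comap f = J)
    (η : Y) (hη : ∀ z : Y, z ⤳ η → z = η) : J.comap (f.fiberι η) = ⊤ := by
  haveI := (hY η).1
  obtain ⟨a, ha, hKa⟩ := exists_stI_generator hK η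
  have htop : stI K η = ⊤ := by
    rw [hKa, Ideal.span_singleton_eq_top]
    by_contra hu
    obtain ⟨P, hP, haP⟩ := Ideal.exists_le_maximal (Ideal.span {a}) (by rwa [Ne, Ideal.span_singleton_eq_top])
    obtain ⟨z, hz, hzb⟩ := H23.StalkPrimes.exists_point (X := Y) (x := η) (⊥ : Ideal (Y.presheaf.stalk η))
    have hz' := hη z hz
    subst hz'
    have : a ∈ (CDiv6.primeOf hz).asIdeal := by
      rw [CDiv6.mem_primeOf, TopCat.Presheaf.stalkSpecializes_refl]
      exact hu
    rw [hzb, Ideal.mem_bot] at this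
    exact nonZeroDivisors.ne_zero ha this
  refine ext_of_stI fun w => ?_
  have hw : f (f.fiberι η w) = η := FlatDvr.fiberι_apply_eq f w
  rw [stI_comap, stI_top, ← hKJ, stI_comap, show stI K (f (f.fiberι η w)) = ⊤ from hw.symm ▸ htop,
    Ideal.map_top, Ideal.map_top]

variable [IsLocallyNoetherian X] [Flat f] [Surjective f] (hJ : BlowUp.IsEffCartierIdeal J)
  (hη : ∀ η : Y, (∀ z : Y, z ⤳ η → z = η) → J.comap (f.fiberι η) = ⊤)

include hη in
theorem desc_dim_zero (y : Y) (h : ringKrullDim (Y.presheaf.stalk y) = 0) : ∃ I, Desc f J y I :=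
  ⟨⊤, ⟨1, one_mem _, Ideal.span_singleton_one.symm⟩, fun x hx => by
    rw [Ideal.map_top, stI_eq_top_of_fibre f J (hη y (maximal_of_dim_zero h)) hx]⟩

include hη in
/-- Over a point of dimension one a divisor which is trivial on the generic fibres divides a power of the
uniformiser. -/
theorem mem_radical_stI {y : Y} (h : ringKrullDim (Y.presheaf.stalk y) = 1) {π : Y.presheaf.stalk y}
    (hπm : π ∈ maximalIdeal (Y.presheaf.stalk y)) {x : X} (hx : f x = y) :
    gm f (specializes_of_eq hx) π ∈ (stI J x).radical := by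
  rw [Ideal.radical_eq_sInf, Ideal.mem_sInf]
  rintro Q ⟨hgQ, hQ⟩
  by_contra hπQ
  haveI := hQ
  obtain ⟨x', hx', rfl⟩ := H23.StalkPrimes.exists_point Q
  have hxy : f x' ⤳ y := (hx'.map f.continuous).trans (specializes_of_eq hx)
  have hne : f x' ≠ y := fun he => hπQ (by
    rw [CDiv6.mem_primeOf]
    intro hu
    haveI := isLocalHom_gm f he
    refine (IsLocalRing.mem_maximalIdeal π).1 hπm (isUnit_of_map_unit (gm f (specializes_of_eq he)) π ?_)
    have e := congrArg (fun ψ => ψ π) (gm_generize f hx' (specializes_of_eq hx))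
    exact (show gm f (specializes_of_eq he) π = _ from e) ▸ hu)
  have hd0 : ringKrullDim (Y.presheaf.stalk (f x')) = 0 := by
    have h1 := ringKrullDim_stalk_lt hxy hne
    rw [h] at h1
    have h0 := ringKrullDim_nonneg_of_nontrivial (R := Y.presheaf.stalk (f x'))
    exact le_antisymm (Order.le_of_lt_succ (lt_of_lt_of_le h1 (le_of_eq (by rfl)))) h0
  have htop := stI_eq_top_of_fibre f J (hη (f x') (maximal_of_dim_zero hd0)) (x := x') rfl
  rw [← stI_generize J hx'] at htop
  have h2 : (stI J x).map (X.presheaf.stalkSpecializes hx').hom ≤ maximalIdeal _ :=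
    Ideal.map_le_iff_le_comap.2 fun a ha => (IsLocalRing.mem_maximalIdeal _).2
      ((CDiv6.mem_primeOf hx' a).1 (hgQ ha))
  exact Ideal.IsPrime.ne_top (inferInstance : (maximalIdeal _).IsPrime) (top_le_iff.1 (htop.symm.le.trans h2))

include hY hJ hη in
theorem desc_dim_one (y : Y) (h : ringKrullDim (Y.presheaf.stalk y) = 1) [IsIntegral (f.fiber y)] :
    ∃ I, Desc f J y I := by
  haveI := (hY y).1
  haveI := (hY y).2
  haveI := CDiv6.isDVR_of_dim_eq_one _ h
  obtain ⟨π, hπ⟩ := IsDiscreteValuationRing.exists_irreducible (Y.presheaf.stalk y)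
  have hm := hπ.maximalIdeal_eq
  have hπm : π ∈ maximalIdeal (Y.presheaf.stalk y) := hm ▸ Ideal.mem_span_singleton_self π
  have loc : ∀ (x : X) (hx : f x = y),
      gm f (specializes_of_eq hx) π ∈ nonZeroDivisors (X.presheaf.stalk x) ∧
      ¬ IsUnit (gm f (specializes_of_eq hx) π) ∧
      ∃ k : ℕ, stI J x = Ideal.span {gm f (specializes_of_eq hx) π ^ k} := by
    intro x hx
    set φ := gm f (specializes_of_eq hx) with hφ
    haveI := isLocalHom_gm f hx
    have hreg : φ π ∈ nonZeroDivisors (X.presheaf.stalk x) := by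
      letI := φ.toAlgebra
      haveI : Module.Flat (Y.presheaf.stalk y) (X.presheaf.stalk x) := flat_gm f hx
      exact mem_nonZeroDivisors_iff_right.2 fun z hz => (IsSMulRegular.of_flat (S := X.presheaf.stalk x)
        (show IsSMulRegular (Y.presheaf.stalk y) π from fun a b hab => mul_left_cancel₀ hπ.ne_zero hab))
        (show algebraMap _ _ π * z = algebraMap _ _ π * 0 by rw [mul_zero, mul_comm]; exact hz)
    have hnu : ¬ IsUnit (φ π) := fun hu => (IsLocalRing.mem_maximalIdeal π).1 hπm (isUnit_of_map_unit φ π hu)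
    refine ⟨hreg, hnu, ?_⟩
    obtain ⟨w, rfl⟩ : x ∈ Set.range (f.fiberι y) := by rw [f.range_fiberι]; exact hx
    have hker : RingHom.ker ((f.fiberι y).stalkMap w).hom = Ideal.span {φ π} := by
      rw [FlatDvr.ker_stalkMap_fiberι, ← Set.image_singleton, ← Ideal.map_span, ← hm, hφ]
      exact map_maximalIdeal_gm f hx
    have hprime : (Ideal.span {φ π}).IsPrime := hker ▸ RingHom.ker_isPrime _
    obtain ⟨g, hg, hgJ⟩ := exists_stI_generator hJ (f.fiberι y w)
    have hrad : φ π ∈ (Ideal.span {g}).radical := hgJ ▸ mem_radical_stI f J hη h hπm hx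
    obtain ⟨n, hn⟩ := hrad
    rw [Ideal.mem_span_singleton] at hn
    obtain ⟨k, hk⟩ := exists_span_eq_pow hprime hreg n hn
    exact ⟨k, hgJ.trans hk⟩
  obtain ⟨x₀, hx₀⟩ := f.surjective y
  obtain ⟨-, -, k₀, hk₀⟩ := loc x₀ hx₀
  refine ⟨Ideal.span {π ^ k₀}, ⟨π ^ k₀, (nonZeroDivisors _).pow_mem
    (mem_nonZeroDivisors_iff_ne_zero.2 hπ.ne_zero) _, rfl⟩, fun x hx => ?_⟩
  obtain ⟨-, -, k, hk⟩ := loc x hx
  have hgen : ∀ (x : X) (hx : f x = y), f.fiberι y (genericPoint (f.fiber y)) ⤳ x := fun x hx => by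
    obtain ⟨w, rfl⟩ : x ∈ Set.range (f.fiberι y) := by rw [f.range_fiberι]; exact hx
    exact ((genericPoint_spec (f.fiber y)).specializes trivial).map (f.fiberι y).continuous
  set ξ := f.fiberι y (genericPoint (f.fiber y)) with hξdef
  have hξ : f ξ = y := FlatDvr.fiberι_apply_eq f _
  obtain ⟨hr, hu, kξ, hkξ⟩ := loc ξ hξ
  have same : ∀ (x : X) (hx : f x = y) (k : ℕ), stI J x = Ideal.span {gm f (specializes_of_eq hx) π ^ k} →
      k = kξ := fun x hx k hk => by
    refine eq_of_pow_span_eq hr hu ?_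
    rw [← hkξ, ← stI_generize J (hgen x hx), hk, Ideal.map_span, Set.image_singleton, map_pow,
      show gm f (specializes_of_eq hξ) = gm f (((hgen x hx).map f.continuous).trans (specializes_of_eq hx)) from rfl,
      gm_generize]
    rfl
  rw [hk, same x hx k hk, ← same x₀ hx₀ k₀ hk₀, Ideal.map_span, Set.image_singleton, map_pow]

end Groth.Agent.Div21Lib
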