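import Groth.Agent.Div21Lib.Local
import Groth.Agent.MeroX.EffCartier
import Groth.Agent.GrpSchLib.FieldSmooth

/-! Gluing the local ideals of a descended divisor. -/

set_option autoImplicit false
set_option backward.isDefEq.respectTransparency false
set_option backward.isDefEq.respectTransparency.types false
set_option linter.style.haveILetI false
universe u

open CategoryTheory CategoryTheory.Limits AlgebraicGeometry TopologicalSpace IsLocalRing

noncomputable section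

namespace Groth.Agent.Div21Lib

variable {X Y : Scheme.{u}} (f : X ⟶ Y)

theorem exists_finite_affines [Surjective f] (hf : QuasiCompact f ∨ IsOpenMap f) (V : Y.affineOpens) :
    ∃ t : Set X.affineOpens, t.Finite ∧ (∀ U ∈ t, U.1 ≤ f ⁻¹ᵁ V.1) ∧
      ∀ y ∈ V.1, ∃ U ∈ t, ∃ x ∈ U.1, f x = y := by
  have hx : ∀ x : {x : X // f x ∈ V.1}, ∃ U : X.affineOpens, x.1 ∈ U.1 ∧ U.1 ≤ f ⁻¹ᵁ V.1 := fun x => by
    obtain ⟨U, hU, hxU, hle⟩ := exists_isAffineOpen_mem_and_subset (x := x.1) (U := f ⁻¹ᵁ V.1) x.2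
    exact ⟨⟨U, hU⟩, hxU, hle⟩
  choose U hxU hle using hx
  rcases hf with hf | hf
  · obtain ⟨s, hs⟩ := (f.isCompact_preimage V.2.isCompact).elim_finite_subcover
      (fun x => ((U x).1 : Set X)) (fun x => (U x).1.isOpen)
      (fun x hx => Set.mem_iUnion.2 ⟨⟨x, hx⟩, hxU ⟨x, hx⟩⟩)
    refine ⟨U '' ↑s, s.finite_toSet.image U, by rintro _ ⟨x, -, rfl⟩; exact hle x, fun y hy => ?_⟩
    obtain ⟨x, rfl⟩ := f.surjective y
    obtain ⟨i, hi, hxi⟩ := Set.mem_iUnion₂.1 (hs hy)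
    exact ⟨U i, ⟨i, hi, rfl⟩, x, hxi, rfl⟩
  · obtain ⟨s, hs⟩ := V.2.isCompact.elim_finite_subcover (fun x => f '' ((U x).1 : Set X))
      (fun x => hf _ (U x).1.isOpen)
      (fun y hy => by
        obtain ⟨x, rfl⟩ := f.surjective y
        exact Set.mem_iUnion.2 ⟨⟨x, hy⟩, x, hxU ⟨x, hy⟩, rfl⟩)
    refine ⟨U '' ↑s, s.finite_toSet.image U, by rintro _ ⟨x, -, rfl⟩; exact hle x, fun y hy => ?_⟩
    obtain ⟨i, hi, x, hxi, rfl⟩ := Set.mem_iUnion₂.1 (hs hy)
    exact ⟨U i, ⟨i, hi, rfl⟩, x, hxi, rfl⟩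

variable (J : X.IdealSheafData) (I : ∀ y : Y, Ideal (Y.presheaf.stalk y))

/-- The sections over `V` with germs in the given ideals. -/
def secIdeal (V : Y.Opens) : Ideal Γ(Y, V) :=
  ⨅ y : {y : Y // y ∈ V}, (I y.1).comap (Y.presheaf.germ V y.1 y.2).hom

theorem mem_secIdeal {V : Y.Opens} {s : Γ(Y, V)} :
    s ∈ secIdeal I V ↔ ∀ (y : Y) (hy : y ∈ V), Y.presheaf.germ V y hy s ∈ I y := by
  simp [secIdeal, Submodule.mem_iInf]

variable [Flat f] [Surjective f] (hI : ∀ y, Desc f J y (I y)) (hf : QuasiCompact f ∨ IsOpenMap f)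

include hI hf in
/-- A section whose germ at a point lies in the ideal lies in it after multiplying by a function invertible
at the point. -/
theorem exists_mul_mem_secIdeal (V : Y.affineOpens) (P : PrimeSpectrum Γ(Y, V.1)) (hP : V.2.fromSpec P ∈ V.1)
    (a : Γ(Y, V.1)) (ha : Y.presheaf.germ V.1 (V.2.fromSpec P) hP a ∈ I _) :
    ∃ b, b ∉ P.asIdeal ∧ b * a ∈ secIdeal I V.1 := by
  classical
  obtain ⟨t, ht, hle, hcov⟩ := exists_finite_affines f hf V
  have key : ∀ U : t, ∃ b, b ∉ P.asIdeal ∧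
      f.appLE V.1 U.1.1 (hle U.1 U.2) (b * a) ∈ J.ideal U.1 := by
    rintro ⟨U, hU⟩
    by_contra hno
    push Not at hno
    let φ := (f.appLE V.1 U.1 (hle U hU)).hom
    let K : Ideal Γ(X, U.1) := (J.ideal U).colon ({φ a} : Set Γ(X, U.1))
    have hdisj : Disjoint (K : Set Γ(X, U.1)) ↑(P.asIdeal.primeCompl.map φ) := by
      rw [Set.disjoint_left]
      rintro _ hz ⟨b, hb, rfl⟩
      refine hno b hb ?_
      rw [SetLike.mem_coe, Submodule.mem_colon_singleton, smul_eq_mul, ← map_mul] at hz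
      exact hz
    obtain ⟨Q, hQ, hKQ, hQd⟩ := Ideal.exists_le_prime_disjoint _ _ hdisj
    haveI := hQ
    let q : PrimeSpectrum Γ(X, U.1) := ⟨Q, hQ⟩
    have hx : U.2.fromSpec q ∈ U.1 := by
      have : U.2.fromSpec q ∈ Set.range U.2.fromSpec := ⟨q, rfl⟩
      rwa [U.2.range_fromSpec] at this
    have hsp : f (U.2.fromSpec q) ⤳ V.2.fromSpec P := by
      have e : f (U.2.fromSpec q) = V.2.fromSpec (PrimeSpectrum.comap φ q) := by
        rw [← Scheme.Hom.comp_apply, ← IsAffineOpen.SpecMap_appLE_fromSpec f V.2 U.2 (hle U hU)]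
        rfl
      rw [e]
      refine ((PrimeSpectrum.le_iff_specializes _ _).1 (?_ : PrimeSpectrum.comap φ q ≤ P)).map
        V.2.fromSpec.continuous
      intro b hb
      by_contra hn
      exact Set.disjoint_left.1 hQd hb ⟨b, hn, rfl⟩
    have h1 : X.presheaf.germ U.1 _ hx (φ a) ∈ stI J (U.2.fromSpec q) := by
      rw [← map_gm_of_desc f J (hI _) hsp ⟨_, hI _⟩, ← gm_germ f hsp V.1 hP U.1 hx (hle U hU) a]
      exact Ideal.mem_map_of_mem _ ha
    rw [stI_eq J U hx] at h1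
    letI : Algebra Γ(X, U.1) (X.presheaf.stalk (U.2.fromSpec q)) := (X.presheaf.germ U.1 _ hx).hom.toAlgebra
    haveI : IsLocalization.AtPrime (X.presheaf.stalk (U.2.fromSpec q)) Q := U.2.isLocalization_stalk' _ hx
    obtain ⟨⟨⟨i, hi⟩, ⟨w, hw⟩⟩, he⟩ := (IsLocalization.mem_map_algebraMap_iff Q.primeCompl _).1 h1
    change algebraMap Γ(X, U.1) _ (φ a) * algebraMap Γ(X, U.1) _ w = algebraMap Γ(X, U.1) _ i at he
    rw [← map_mul] at he
    obtain ⟨⟨c, hc⟩, hcw⟩ := (IsLocalization.eq_iff_exists Q.primeCompl _).1 he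
    refine Q.primeCompl.mul_mem hc hw (hKQ ?_)
    rw [Submodule.mem_colon_singleton, smul_eq_mul, mul_assoc, mul_comm w (φ a)]
    exact (show c * (φ a * w) = c * i from hcw) ▸ Ideal.mul_mem_left _ c hi
  choose b hb hba using key
  haveI : Fintype t := ht.fintype
  refine ⟨∏ U, b U, prod_mem (S := P.asIdeal.primeCompl) (fun U _ => hb U), ?_⟩
  rw [mem_secIdeal]
  intro y hy
  obtain ⟨U, hU, x, hx, rfl⟩ := hcov y hy
  rw [← comap_map_gm f rfl (I (f x)), Ideal.mem_comap, (hI (f x)).2 x rfl,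
    gm_germ f _ V.1 hy U.1 hx (hle U hU)]
  refine germ_mem_stI J U ?_ hx
  rw [← Finset.prod_erase_mul _ _ (Finset.mem_univ (⟨U, hU⟩ : t)), mul_assoc, map_mul]
  exact Ideal.mul_mem_left _ _ (hba ⟨U, hU⟩)

include hI hf in
theorem map_secIdeal_basicOpen (V : Y.affineOpens) (g : Γ(Y, V.1)) :
    (secIdeal I V.1).map (Y.presheaf.map (homOfLE (Y.basicOpen_le g)).op).hom = secIdeal I (Y.basicOpen g) := by
  refine le_antisymm (Ideal.map_le_iff_le_comap.2 fun s hs => ?_) fun s hs => ?_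
  · rw [Ideal.mem_comap, mem_secIdeal]
    intro y hy
    rw [TopCat.Presheaf.germ_res_apply]
    exact mem_secIdeal I |>.1 hs y _
  · letI := (Y.presheaf.map (homOfLE (Y.basicOpen_le g)).op).hom.toAlgebra
    haveI : IsLocalization.Away g Γ(Y, Y.basicOpen g) := V.2.isLocalization_basicOpen g
    obtain ⟨a, ⟨_, n, rfl⟩, rfl⟩ := IsLocalization.exists_mk'_eq (Submonoid.powers g) s
    let K : Ideal Γ(Y, V.1) := (secIdeal I V.1).colon ({a} : Set Γ(Y, V.1))
    have hres : algebraMap _ Γ(Y, Y.basicOpen g) a ∈ secIdeal I (Y.basicOpen g) := by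
      rw [← IsLocalization.mk'_spec Γ(Y, Y.basicOpen g) a (⟨g ^ n, n, rfl⟩ : Submonoid.powers g)]
      exact Ideal.mul_mem_right _ _ hs
    have hg : g ∈ K.radical := by
      rw [Ideal.radical_eq_sInf, Ideal.mem_sInf]
      rintro P ⟨hKP, hPp⟩
      by_contra hgP
      haveI := hPp
      let p : PrimeSpectrum Γ(Y, V.1) := ⟨P, hPp⟩
      have hp : V.2.fromSpec p ∈ V.1 := by
        have : V.2.fromSpec p ∈ Set.range V.2.fromSpec := ⟨p, rfl⟩
        rwa [V.2.range_fromSpec] at this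
      have hpg : V.2.fromSpec p ∈ Y.basicOpen g := by
        rw [← Scheme.Hom.mem_preimage, V.2.fromSpec_preimage_basicOpen]
        exact hgP
      obtain ⟨b, hb, hba⟩ := exists_mul_mem_secIdeal f J I hI hf V p hp a (by
        rw [← TopCat.Presheaf.germ_res_apply Y.presheaf (homOfLE (Y.basicOpen_le g)) _ hpg a]
        exact (mem_secIdeal I).1 hres _ hpg)
      exact hb (hKP (by rw [Submodule.mem_colon_singleton, smul_eq_mul]; exact hba))
    obtain ⟨m, hm⟩ := hg
    rw [Submodule.mem_colon_singleton, smul_eq_mul] at hm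
    refine (IsLocalization.mk'_mem_map_algebraMap_iff (Submonoid.powers g) _ _ _ _).2 ⟨g ^ m, ⟨m, rfl⟩, ?_⟩
    exact hm

/-- The descended ideal sheaf. -/
def glue : Y.IdealSheafData where
  ideal V := secIdeal I V.1
  map_ideal_basicOpen := map_secIdeal_basicOpen f J I hI hf

theorem stI_glue (y : Y) : stI (glue f J I hI hf) y = I y := by
  obtain ⟨V, hV, hyV, -⟩ := exists_isAffineOpen_mem_and_subset (x := y) (U := ⊤) trivial
  rw [stI_eq _ ⟨V, hV⟩ hyV]
  refine le_antisymm (Ideal.map_le_iff_le_comap.2 fun s hs => (mem_secIdeal I).1 hs y hyV) fun e he => ?_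
  obtain ⟨P, rfl⟩ : ∃ P, hV.fromSpec P = y := by
    have : y ∈ (V : Set Y) := hyV
    rwa [← hV.range_fromSpec] at this
  letI : Algebra Γ(Y, V) (Y.presheaf.stalk (hV.fromSpec P)) := (Y.presheaf.germ V _ hyV).hom.toAlgebra
  haveI : IsLocalization.AtPrime (Y.presheaf.stalk (hV.fromSpec P)) P.asIdeal := hV.isLocalization_stalk' _ hyV
  obtain ⟨a, s, rfl⟩ := IsLocalization.exists_mk'_eq P.asIdeal.primeCompl e
  obtain ⟨b, hb, hba⟩ := exists_mul_mem_secIdeal f J I hI hf ⟨V, hV⟩ P hyV a (by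
    show algebraMap Γ(Y, V) _ a ∈ I _
    rw [← IsLocalization.mk'_spec (Y.presheaf.stalk (hV.fromSpec P)) a s]
    exact Ideal.mul_mem_right _ _ he)
  exact (IsLocalization.mk'_mem_map_algebraMap_iff P.asIdeal.primeCompl _ _ _ _).2 ⟨b, hb, hba⟩

variable [IsLocallyNoetherian Y]

include hI hf in
theorem exists_descended : ∃ K : Y.IdealSheafData, BlowUp.IsEffCartierIdeal K ∧ K.comap f = J := by
  refine ⟨glue f J I hI hf, MeroX.isEffCartier_of_stalk _ fun y _ U hy => ?_, ext_of_stI fun x => ?_⟩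
  · obtain ⟨a, ha, he⟩ := (hI y).1
    exact ⟨a, ha, by rw [← stI_eq _ U hy, stI_glue, he]⟩
  · rw [stI_comap, stI_glue, ← gm_refl]
    exact (hI (f x)).2 x rfl

theorem hyp_of_descended {X Y : Scheme.{u}} (f : X ⟶ Y) [Flat f] {J : X.IdealSheafData}
    {K : Y.IdealSheafData} (hK : BlowUp.IsEffCartierIdeal K) (he : K.comap f = J) (y : Y) :
    ∃ I₁ : (Spec (Y.presheaf.stalk y)).IdealSheafData, BlowUp.IsEffCartierIdeal I₁ ∧
      I₁.comap (pullback.snd f (Y.fromSpecStalk y)) = J.comap (pullback.fst f (Y.fromSpecStalk y)) := by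
  have : Flat (Y.fromSpecStalk y) := GrpSchLib.flat_fromSpecStalk y
  refine ⟨K.comap (Y.fromSpecStalk y), MeroX.isEffCartier_comap _ K hK, ?_⟩
  rw [← he, ← Scheme.IdealSheafData.comap_comp, ← Scheme.IdealSheafData.comap_comp, pullback.condition]

end Groth.Agent.Div21Lib
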