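import Groth.Agent.Div21Lib.Invertible
import Groth.Agent.CDiv6.Factorial

/-! A normal scheme is locally factorial when every divisor comes from an invertible module. -/

set_option autoImplicit false
set_option backward.isDefEq.respectTransparency false
set_option backward.isDefEq.respectTransparency.types false
set_option linter.style.haveILetI false
universe u

open CategoryTheory AlgebraicGeometry TopologicalSpace

namespace Groth.Agent.Div21Lib

variable {X : Scheme.{u}} [IsIntegral X] [IsLocallyNoetherian X] (hX : Pi1.IsNormalScheme X)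

include hX in
/-- The local rings are factorial when divisors of codimension one points are locally principal. -/
theorem ufd_of_local_functions (x : X)
    (h : ∀ y₀ : X, y₀ ⤳ x → Order.coheight y₀ = 1 → ∃ f : CDiv.KUnits X,
      ∀ z : X, z ⤳ x → Order.coheight z = 1 →
        (z = y₀ → Scheme.ord (f : X.functionField) z = 1) ∧ (z ≠ y₀ → Scheme.ord (f : X.functionField) z = 0)) :
    UniqueFactorizationMonoid (X.presheaf.stalk x) := by
  refine UniqueFactorizationMonoid.iff_exists_prime_mem_of_isPrime.mpr fun Q hQ hQp => ?_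
  obtain ⟨b, hb, hb0⟩ := Submodule.exists_mem_ne_zero_of_ne_bot hQ
  obtain ⟨P, hP, hPQ⟩ := Ideal.exists_minimalPrimes_le (show Ideal.span {b} ≤ Q by simpa [Ideal.span_le] using hb)
  haveI := hP.1.1
  have hP0 : P ≠ ⊥ := fun h => hb0 (by
    have := hP.1.2 (Ideal.mem_span_singleton_self b)
    rw [h] at this
    simpa using this)
  have hPh := CDiv6.height_eq_one_of_prime hP0 (Ideal.height_le_one_of_isPrincipal_of_mem_minimalPrimes _ P hP)
  let Pp : PrimeSpectrum (X.presheaf.stalk x) := ⟨P, inferInstance⟩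
  obtain ⟨y₀, hy₀, hprime⟩ : ∃ (y : X) (h : y ⤳ x), CDiv6.primeOf h = Pp :=
    ⟨_, CDiv6.fromSpecStalk_specializes Pp, CDiv6.primeOf_fromSpecStalk Pp⟩
  have hP' : (CDiv6.primeOf hy₀).asIdeal = P := by rw [hprime]
  have hy1 : Order.coheight y₀ = 1 := by rw [← CDiv6.height_primeOf hy₀, hP', hPh]
  obtain ⟨f, hf'⟩ := h y₀ hy₀ hy1
  have hord : ∀ z : X, z ⤳ x → Order.coheight z = 1 → z ≠ y₀ → Scheme.ord (f : X.functionField) z = 0 :=
    fun z hz h1 hne => (hf' z hz h1).2 hne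
  have hord0 : Scheme.ord (f : X.functionField) y₀ = 1 := (hf' y₀ hy₀ hy1).1 rfl
  obtain ⟨π, hπ⟩ : CDiv6.Reg x (f : X.functionField) :=
    CDiv6.reg_of_forall_ord_nonneg hX f.ne_zero fun z hz h1 => by
      by_cases hne : z = y₀
      · subst hne; omega
      · exact (hord z hz h1 hne).ge
  have hπ0 : π ≠ 0 := fun h => f.ne_zero (by rw [← hπ, h, map_zero])
  have hf : CDiv6.toK π hπ0 = f := Units.ext hπ
  have hπP : π ∈ P := by
    by_contra hn
    have := CDiv6.ord_toK_eq_zero hy₀ hπ0 (hP'.symm ▸ hn)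
    rw [hf] at this
    omega
  have hspan : P = Ideal.span {π} := by
    refine le_antisymm (fun g hg => ?_) (by rwa [Ideal.span_le, Set.singleton_subset_iff])
    rcases eq_or_ne g 0 with rfl | hg0
    · exact zero_mem _
    have hg1 := CDiv6.one_le_ord_toK hX hy₀ hy1 hg0 (hP'.symm ▸ hg)
    obtain ⟨c, hc⟩ := CDiv6.reg_of_forall_ord_nonneg hX (x := x) (CDiv6.toK g hg0 / f : CDiv.KUnits X).ne_zero
      fun z hz h1 => by
        rw [CDiv6.ord_div_unit]
        by_cases hne : z = y₀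
        · subst hne; omega
        · have := CDiv6.ord_toK_nonneg hz hg0
          have := hord z hz h1 hne
          omega
    refine Ideal.mem_span_singleton'.mpr ⟨c, IsFractionRing.injective (X.presheaf.stalk x) X.functionField ?_⟩
    rw [map_mul, hc, hπ, ← Units.val_mul, div_mul_cancel]
    rfl
  exact ⟨π, hPQ hπP, (Ideal.span_singleton_prime hπ0).mp (hspan ▸ inferInstance)⟩

include hX in
theorem ufd_of_invertible
    (h : ∀ Z : X → ℤ, (∀ x : X, Order.coheight x ≠ 1 → Z x = 0) →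
      (∀ x : X, ∃ W : X.Opens, x ∈ W ∧ {z : X | z ∈ W ∧ Z z ≠ 0}.Finite) →
        ∃ (L : X.Modules) (_ : PicF.IsInvertible L) (s : L.presheaf.stalk (genericPoint X)), s ≠ 0 ∧
          ∀ x : X, Order.coheight x = 1 → Ref1X.ordF L s x = Z x) (x : X) :
    UniqueFactorizationMonoid (X.presheaf.stalk x) := by
  classical
  refine ufd_of_local_functions hX x fun y₀ hy₀ hy1 => ?_
  obtain ⟨L, hL, s, hs, hord⟩ := h (fun z => if z = y₀ then 1 else 0)
    (fun z hz => if_neg fun (e : z = y₀) => hz (by rw [e]; exact hy1))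
    (fun z => ⟨⊤, trivial, (Set.finite_singleton y₀).subset fun w hw => by
      by_contra hne
      exact hw.2 (if_neg hne)⟩)
  have hc := AmpleVan.isCoh_invertible hL
  obtain ⟨t, ht⟩ := exists_gen_of_invertible hL x
  obtain ⟨φ, hφ⟩ := (ht.specialize hc (Ref1X.eta_le x)).2 s
  dsimp only at hφ
  have hφ0 : (φ : X.functionField) ≠ 0 := fun h0 => hs (by rw [← hφ, show φ = 0 from h0, zero_smul])
  refine ⟨Units.mk0 φ hφ0, fun z hz hz1 => ?_⟩
  have e : Ref1X.ordF L s z = Scheme.ord (X := X) φ z := by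
    refine Ref1X.ordF_eq hc hz1 (ht.specialize hc hz) hφ0 ?_
    rw [← hφ]
    refine congrArg (φ • ·) ?_
    exact (L.presheaf.stalkSpecializes_comp_apply (Ref1X.eta_le z) hz t).symm
  rw [hord z hz1] at e
  exact ⟨fun h' => by rw [Units.val_mk0, ← e, if_pos h'], fun h' => by rw [Units.val_mk0, ← e, if_neg h']⟩

variable {D : X → ℤ}

include hX in
/-- On a locally factorial scheme every divisor is locally principal. -/
theorem exists_local_eq_of_ufd (hU : ∀ x : X, UniqueFactorizationMonoid (X.presheaf.stalk x))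
    (hD : ∀ V : X.Opens, IsAffineOpen V → {z : X | z ∈ V ∧ D z ≠ 0}.Finite)
    (hD1 : ∀ z : X, Order.coheight z ≠ 1 → D z = 0) (x : X) :
    ∃ (W : X.Opens) (φ : X.functionField), x ∈ W ∧ φ ≠ 0 ∧
      ∀ z ∈ W, Order.coheight z = 1 → Scheme.ord φ z = -D z := by
  classical
  obtain ⟨V, hV, hxV, -⟩ := exists_isAffineOpen_mem_and_subset (x := x) (U := ⊤) trivial
  let S := (hD V hV).toFinset
  have hS : ∀ s : S, Order.coheight (s : X) = 1 := fun s => by
    by_contra hne
    exact ((hD V hV).mem_toFinset.1 s.2).2 (hD1 _ hne)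
  choose U f hxU hf using fun s : S => CDiv6.exists_local_equation hX hU (s : X) (hS s) x
  let W : X.Opens := V ⊓ Finset.univ.inf U
  refine ⟨W, ∏ s : S, (f s : X.functionField) ^ (-D s.1), ⟨hxV, ?_⟩, ?_, fun z hz hz1 => ?_⟩
  · induction (Finset.univ : Finset S) using Finset.induction_on with
    | empty => trivial
    | insert a t _ ih => rw [Finset.inf_insert]; exact ⟨hxU a, ih⟩
  · exact Finset.prod_ne_zero_iff.2 fun s _ => zpow_ne_zero _ (f s).ne_zero
  · rw [Ref1X.OD.ord_prod Finset.univ (fun s : S => (f s : X.functionField) ^ (-D s.1))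
      (fun s _ => zpow_ne_zero _ (f s).ne_zero)]
    rw [Finset.sum_congr rfl fun s _ => Ref1X.OD.ord_zpow (f s).ne_zero z (-D s.1)]
    have hmem : ∀ s : S, z ∈ U s := fun s => (Finset.inf_le (Finset.mem_univ s) : Finset.univ.inf U ≤ U s) hz.2
    by_cases hzS : D z = 0
    · rw [hzS, neg_zero]
      refine Finset.sum_eq_zero fun s _ => ?_
      rw [(hf s z (hmem s) hz1).2 fun e => ((hD V hV).mem_toFinset.1 s.2).2 (e ▸ hzS), mul_zero]
    · let s₀ : S := ⟨z, (hD V hV).mem_toFinset.2 ⟨hz.1, hzS⟩⟩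
      rw [Finset.sum_eq_single s₀ (fun s _ hne => by
        rw [(hf s z (hmem s) hz1).2 fun e => hne (Subtype.ext e.symm), mul_zero])
        (fun h => absurd (Finset.mem_univ _) h), (hf s₀ z (hmem s₀) hz1).1 rfl, mul_one]

include hX in
theorem exists_invertible_of_ufd (hU : ∀ x : X, UniqueFactorizationMonoid (X.presheaf.stalk x))
    (hD : ∀ V : X.Opens, IsAffineOpen V → {z : X | z ∈ V ∧ D z ≠ 0}.Finite)
    (hD1 : ∀ z : X, Order.coheight z ≠ 1 → D z = 0) :
    ∃ (L : X.Modules) (_ : PicF.IsInvertible L) (s : L.presheaf.stalk (genericPoint X)), s ≠ 0 ∧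
      ∀ z : X, Order.coheight z = 1 → Ref1X.ordF L s z = D z := by
  have hinv : PicF.IsInvertible (Ref1X.OD.M hX D) := InvX.isInvertible_of_frames fun x => by
    obtain ⟨W, φ, hxW, hφ, hW⟩ := exists_local_eq_of_ufd hX hU hD hD1 x
    exact ⟨W, hxW, _, Ref1X.OD.isFrame_mk hφ hW⟩
  have hc := AmpleVan.isCoh_invertible hinv
  obtain ⟨W₀, hη, hW₀⟩ := Ref1X.OD.exists_open_one (D := D)
    (fun V hV => (hD V hV).subset fun z hz => ⟨hz.1, hz.2⟩)
  have h₀ : ∀ y ∈ W₀, Order.coheight y = 1 → Scheme.ord (1 : X.functionField) y = -D y := fun y hy h1 => by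
    rw [Ref1X.OD.ord_one, hW₀ y hy h1]; rfl
  let e₀ : Γ(Ref1X.OD.M hX D, W₀) := Ref1X.OD.mk W₀ 1 fun y hy h1 => Or.inr (h₀ y hy h1).ge
  refine ⟨_, hinv, (Ref1X.OD.M hX D).presheaf.germ W₀ _ hη e₀, ?_, fun z hz => ?_⟩
  · have hg := Ref1X.IsGen.of_frame (Ref1X.OD.isFrame_mk (hX := hX) one_ne_zero h₀) hη
    intro h0
    exact one_ne_zero (α := X.functionField) (hg.1 (show (1 : X.presheaf.stalk (genericPoint X)) • _ =
      (0 : X.presheaf.stalk (genericPoint X)) • _ by rw [h0, smul_zero, smul_zero]))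
  obtain ⟨W, φ, hzW, hφ0, hW⟩ := exists_local_eq_of_ufd hX hU hD hD1 z
  let e : Γ(Ref1X.OD.M hX D, W) := Ref1X.OD.mk W φ fun y hy h1 => Or.inr (hW y hy h1).ge
  have hgy := Ref1X.IsGen.of_frame (Ref1X.OD.isFrame_mk (hX := hX) hφ0 hW) hzW
  have hηW : genericPoint X ∈ W₀ ⊓ W := ⟨hη, Ref1X.eta_mem hzW⟩
  obtain ⟨c, hc'⟩ := (Ref1X.OD.isFrame_mk (hX := hX) hφ0 hW).exists_coord (inf_le_right : W₀ ⊓ W ≤ W)
    (AModX.res (Ref1X.OD.M hX D) (inf_le_left : W₀ ⊓ W ≤ W₀) e₀)
  have h1 : (X.presheaf.germ (W₀ ⊓ W) _ hηW c : X.functionField) * φ = 1 := by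
    have h2 := congrArg (fun m => Ref1X.OD.val m hηW) hc'
    rw [Ref1X.OD.val_res, Ref1X.OD.val_smul, Ref1X.OD.val_res, Ref1X.OD.val_mk] at h2
    exact h2.symm
  have hc0 : X.presheaf.germ (W₀ ⊓ W) _ hηW c ≠ 0 := fun h0 => one_ne_zero (α := X.functionField) (by
    rw [← h1]; exact (congrArg (· * φ) h0).trans (zero_mul φ))
  have hs : (Ref1X.OD.M hX D).presheaf.germ W₀ _ hη e₀ =
      X.presheaf.germ (W₀ ⊓ W) _ hηW c •
        Ref1X.gsp (Ref1X.OD.M hX D) z ((Ref1X.OD.M hX D).presheaf.germ W z hzW e) := by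
    rw [Ref1X.sp_germ, ← RefX.germ_res (Ref1X.OD.M hX D) (inf_le_left : W₀ ⊓ W ≤ W₀) hηW e₀,
      ← RefX.germ_res (Ref1X.OD.M hX D) (inf_le_right : W₀ ⊓ W ≤ W) hηW e, ← QCoh.germ_smul']
    exact congrArg _ hc'
  rw [Ref1X.ordF_eq hc hz hgy hc0 hs]
  have h3 := Scheme.ord_mul (X := X) (x := z) (f := (X.presheaf.germ (W₀ ⊓ W) _ hηW c : X.functionField)) hc0 hφ0
  rw [h1, Ref1X.OD.ord_one, hW z hzW hz] at h3
  omega

end Groth.Agent.Div21Lib
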