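import Groth.Agent.ParaFX.Depth
import Groth.Agent.S2062
import Mathlib.RingTheory.RingHom.FaithfullyFlat
import Mathlib.RingTheory.Flat.Localization

/-! Descent of principal ideals across a flat local map, in depth at least two. -/

set_option autoImplicit false
set_option linter.style.haveILetI false
universe u

open IsLocalRing TensorProduct

namespace Groth.Agent.Div21Lib

variable {A B : Type u} [CommRing A] [CommRing B] [Algebra A B] [IsLocalRing A] [IsLocalRing B]
  [IsNoetherianRing A] [IsNoetherianRing B] [Module.Flat A B] [IsLocalHom (algebraMap A B)]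

omit [IsLocalHom (algebraMap A B)] in
theorem two_le_depth_localization (hd : (2 : ℕ∞) ≤ LocCoh.depth A A) (Q : Ideal B) [Q.IsPrime]
    (hQ : (maximalIdeal A).map (algebraMap A B) ≤ Q) :
    (2 : ℕ∞) ≤ LocCoh.depth (Localization.AtPrime Q) (Localization.AtPrime Q) := by
  haveI : IsLocalHom (algebraMap A (Localization.AtPrime Q)) := ⟨fun a ha => by
    by_contra hn
    refine (IsLocalRing.mem_maximalIdeal _).1 ?_ ha
    rw [IsScalarTower.algebraMap_apply A B (Localization.AtPrime Q), IsLocalization.AtPrime.to_map_mem_maximal_iff _ Q]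
    exact hQ (Ideal.mem_map_of_mem _ ((IsLocalRing.mem_maximalIdeal a).2 hn))⟩
  haveI : Module.Flat A (Localization.AtPrime Q) := Module.Flat.trans A B (Localization.AtPrime Q)
  have h := Groth.Agent.S2062.result (R := A) (S := Localization.AtPrime Q) (M := A) (N := Localization.AtPrime Q)
  have e : LocCoh.depth (Localization.AtPrime Q) (Localization.AtPrime Q ⊗[A] A) =
      LocCoh.depth (Localization.AtPrime Q) (Localization.AtPrime Q) :=
    LC.idealDepth_congr (maximalIdeal (Localization.AtPrime Q))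
      (TensorProduct.AlgebraTensorModule.rid A (Localization.AtPrime Q) (Localization.AtPrime Q))
  rw [← e, h]
  exact le_trans hd le_self_add

omit [IsLocalHom (algebraMap A B)] in
/-- Divisibility by a regular element can be tested off the fibre over the closed point. -/
theorem dvd_of_dvd_off_fibre (hd : (2 : ℕ∞) ≤ LocCoh.depth A A) {g : B} (hg : g ∈ nonZeroDivisors B) {c : B}
    (h : ∀ f ∈ maximalIdeal A, ∃ n : ℕ, g ∣ algebraMap A B f ^ n * c) : g ∣ c := by
  by_contra hne
  let T : Ideal B := (Ideal.span {g}).colon ({c} : Set B)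
  have hT : ∀ t, t ∈ T ↔ g ∣ t * c := fun t => by
    rw [Submodule.mem_colon_singleton, smul_eq_mul, Ideal.mem_span_singleton]
  have hTne : T ≠ ⊤ := fun h1 => hne (by
    have := (hT 1).1 (by rw [h1]; exact Submodule.mem_top)
    rwa [one_mul] at this)
  obtain ⟨M, hM, hTM⟩ := Ideal.exists_le_maximal T hTne
  haveI := hM.isPrime
  obtain ⟨Q, hQmin, -⟩ := Ideal.exists_minimalPrimes_le hTM
  haveI := hQmin.1.1
  have hTQ : T ≤ Q := hQmin.1.2
  have hmQ : (maximalIdeal A).map (algebraMap A B) ≤ Q := Ideal.map_le_iff_le_comap.2 fun f hf => by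
    obtain ⟨n, hn⟩ := h f hf
    exact Ideal.IsPrime.mem_of_pow_mem inferInstance n (hTQ ((hT _).2 (by rw [map_pow]; exact hn)))
  let R := Localization.AtPrime Q
  have hrad : maximalIdeal R ≤ (T.map (algebraMap B R)).radical := by
    rw [Ideal.radical_eq_sInf]
    refine le_sInf fun P ⟨hP, hPp⟩ => ?_
    haveI := hPp
    have h1 : P.comap (algebraMap B R) ≤ Q :=
      (Ideal.comap_mono (IsLocalRing.le_maximalIdeal hPp.ne_top)).trans
        (IsLocalization.AtPrime.under_maximalIdeal R Q).le
    have h2 : Q ≤ P.comap (algebraMap B R) :=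
      hQmin.2 ⟨Ideal.IsPrime.comap _, Ideal.map_le_iff_le_comap.1 hP⟩ h1
    rw [← IsLocalization.AtPrime.map_eq_maximalIdeal Q R]
    exact Ideal.map_le_iff_le_comap.2 h2
  have hdvd : algebraMap B R g ∣ algebraMap B R c := by
    refine ParaFX.dvd_of_locally (two_le_depth_localization hd Q hmQ) ?_ fun f hf => ?_
    · exact Module.Flat.isSMulRegular_of_nonZeroDivisors ((IsLocalization.map_nonZeroDivisors_le Q.primeCompl R) ⟨g, hg, rfl⟩)
    · obtain ⟨n, hn⟩ := hrad hf
      obtain ⟨⟨⟨t, ht⟩, ⟨s, hs⟩⟩, hts⟩ := (IsLocalization.mem_map_algebraMap_iff Q.primeCompl R).1 hn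
      refine ⟨n, ((IsLocalization.map_units R (⟨s, hs⟩ : Q.primeCompl)).dvd_mul_left).1 ?_⟩
      rw [← mul_assoc, mul_comm (algebraMap B R s), show f ^ n * algebraMap B R s = algebraMap B R t from hts,
        ← map_mul]
      exact map_dvd _ ((hT t).1 ht)
  obtain ⟨w, hw⟩ := hdvd
  obtain ⟨w, ⟨s, hs⟩, rfl⟩ := IsLocalization.exists_mk'_eq Q.primeCompl w
  have h3 : algebraMap B R (s * c) = algebraMap B R (g * w) := by
    rw [map_mul, map_mul, hw, ← mul_assoc, mul_comm (algebraMap B R s), mul_assoc]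
    exact congrArg _ (IsLocalization.mk'_spec' R w (⟨s, hs⟩ : Q.primeCompl))
  obtain ⟨⟨t, ht⟩, ht'⟩ := (IsLocalization.eq_iff_exists Q.primeCompl R).1 h3
  refine (Q.primeCompl.mul_mem ht hs) (hTQ ((hT _).2 ⟨t * w, ?_⟩))
  calc t * s * c = t * (s * c) := mul_assoc _ _ _
    _ = t * (g * w) := ht'
    _ = g * (t * w) := mul_left_comm _ _ _

theorem exists_pow_mem {R : Type u} [CommRing R] [IsLocalRing R] {T : Ideal R}
    (h : ∀ p : Ideal R, p.IsPrime → T ≤ p → p = maximalIdeal R) {f : R} (hf : f ∈ maximalIdeal R) :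
    ∃ n : ℕ, f ^ n ∈ T := by
  change f ∈ T.radical
  rw [Ideal.radical_eq_sInf, Ideal.mem_sInf]
  rintro p ⟨h1, h2⟩
  rw [h p h2 h1]
  exact hf

/-- The contraction of a principal regular ideal which is extended off the closed point is principal. -/
theorem exists_generator_of_off_closed (hd : (2 : ℕ∞) ≤ LocCoh.depth A A) {g : B} (hg : g ∈ nonZeroDivisors B)
    (h : ∀ p : Ideal A, p.IsPrime → p ≠ maximalIdeal A →
      ∃ t, t ∉ p ∧ algebraMap A B t * g ∈ ((Ideal.span {g}).comap (algebraMap A B)).map (algebraMap A B)) :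
    ∃ a ∈ nonZeroDivisors A, Ideal.span {algebraMap A B a} = Ideal.span {g} := by
  haveI : Module.FaithfullyFlat A B := Module.FaithfullyFlat.of_flat_of_isLocalHom
  set I : Ideal A := (Ideal.span {g}).comap (algebraMap A B) with hI
  have hpow : ∀ f ∈ maximalIdeal A, ∃ n : ℕ, algebraMap A B f ^ n * g ∈ I.map (algebraMap A B) := by
    intro f hf
    obtain ⟨n, hn⟩ := exists_pow_mem (T := ((I.map (algebraMap A B)).colon ({g} : Set B)).comap (algebraMap A B))
      (fun p hp hle => by
        by_contra hne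
        obtain ⟨t, ht, htg⟩ := h p hp hne
        exact ht (hle (by rw [Ideal.mem_comap, Submodule.mem_colon_singleton]; exact htg))) hf
    rw [Ideal.mem_comap, Submodule.mem_colon_singleton, map_pow] at hn
    exact ⟨n, hn⟩
  have hmem : g ∈ I.map (algebraMap A B) := by
    by_cases htop : I = ⊤
    · rw [htop, Ideal.map_top]; exact Submodule.mem_top
    have hass : maximalIdeal A ∉ associatedPrimes A (A ⧸ I) := fun hm => by
      obtain ⟨-, z, hz⟩ := hm
      obtain ⟨c, rfl⟩ := Ideal.Quotient.mk_surjective z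
      have hc : c ∈ I := by
        rw [hI, Ideal.mem_comap, Ideal.mem_span_singleton]
        refine dvd_of_dvd_off_fibre hd hg fun f hf => ?_
        have h1 : f ∈ ((⊥ : Submodule A (A ⧸ I)).colon ({Ideal.Quotient.mk I c} : Set (A ⧸ I))).radical := hz ▸ hf
        obtain ⟨n, hn⟩ := h1
        rw [Submodule.mem_colon_singleton, Submodule.mem_bot] at hn
        have h2 : f ^ n * c ∈ I := Ideal.Quotient.eq_zero_iff_mem.1 hn
        refine ⟨n, Ideal.mem_span_singleton.1 ?_⟩
        rw [← map_pow, ← map_mul]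
        exact h2
      apply (Ideal.IsPrime.ne_top (inferInstance : (maximalIdeal A).IsPrime))
      rw [hz, Ideal.Quotient.eq_zero_iff_mem.2 hc, eq_top_iff]
      intro t _
      exact Ideal.le_radical (by simp [Submodule.mem_colon_singleton])
    obtain ⟨f, hf, hreg⟩ := (Alg6.exists_isSMulRegular_mem_iff (M := A ⧸ I) (maximalIdeal A)).mpr
      (fun p hp hle => hass (by
        rwa [(maximalIdeal.isMaximal A).eq_of_le (IsAssociatedPrime.isPrime hp).ne_top hle]))
    have hregB : IsSMulRegular (B ⊗[A] (A ⧸ I)) f := by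
      have h1 := Module.Flat.lTensor_preserves_injective_linearMap (M := B)
        (LinearMap.lsmul A (A ⧸ I) f) hreg
      intro u v huv
      refine h1 ?_
      have e : ∀ w, (LinearMap.lsmul A (A ⧸ I) f).lTensor B w = f • w := fun w => by
        induction w using TensorProduct.induction_on with
        | zero => simp
        | tmul b z => simp [TensorProduct.tmul_smul]
        | add a b ha hb => rw [map_add, ha, hb, smul_add]
      rw [e, e]
      exact huv
    obtain ⟨n, hn⟩ := hpow f hf
    let e := Algebra.TensorProduct.quotIdealMapEquivTensorQuot B I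
    have h0 : ∀ b : B, (b ⊗ₜ[A] (1 : A ⧸ I)) = 0 ↔ b ∈ I.map (algebraMap A B) := fun b => by
      rw [← Ideal.Quotient.eq_zero_iff_mem, ← e.map_eq_zero_iff (x := Ideal.Quotient.mk _ b)]
      rfl
    refine (h0 g).1 ((hregB.pow n) ?_)
    show f ^ n • (g ⊗ₜ[A] (1 : A ⧸ I)) = f ^ n • (0 : B ⊗[A] (A ⧸ I))
    rw [smul_zero, TensorProduct.smul_tmul', Algebra.smul_def, map_pow]
    exact (h0 _).2 hn
  have key : ∃ a ∈ I, g ∣ algebraMap A B a ∧ algebraMap A B a ∣ g := by
    by_contra hno
    push Not at hno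
    have hle : I.map (algebraMap A B) ≤ Ideal.span {g} * maximalIdeal B := Ideal.map_le_iff_le_comap.2 fun a ha => by
      obtain ⟨w, hw⟩ := Ideal.mem_span_singleton.1 (ha : algebraMap A B a ∈ Ideal.span {g})
      rw [Ideal.mem_comap, hw]
      refine Ideal.mul_mem_mul (Ideal.mem_span_singleton_self g) ((mem_maximalIdeal w).2 fun hu => ?_)
      exact hno a ha ⟨w, hw⟩ (by rw [hw]; exact (associated_mul_unit_right g w hu).symm.dvd)
    obtain ⟨m, hm, hgm⟩ := Ideal.mem_span_singleton_mul.1 (hle hmem)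
    exact (maximalIdeal.isMaximal B).ne_top (Ideal.eq_top_of_isUnit_mem _ hm
      (by rw [(mul_cancel_left_mem_nonZeroDivisors hg).1 (hgm.trans (mul_one g).symm)]; exact isUnit_one))
  obtain ⟨a, -, h1, h2⟩ := key
  refine ⟨a, mem_nonZeroDivisors_iff_right.2 fun z hz => ?_, le_antisymm
    (Ideal.span_singleton_le_span_singleton.2 h1) (Ideal.span_singleton_le_span_singleton.2 h2)⟩
  have h3 : algebraMap A B z * g = 0 := by
    obtain ⟨w, hw⟩ := h2
    rw [hw, ← mul_assoc, ← map_mul, hz, map_zero, zero_mul]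
  exact (FaithfulSMul.algebraMap_injective A B) ((mem_nonZeroDivisors_iff_right.1 hg _ h3).trans (map_zero _).symm)

omit [IsLocalRing A] [IsLocalRing B] [IsNoetherianRing A] [IsNoetherianRing B] [Module.Flat A B]
  [IsLocalHom (algebraMap A B)] in
theorem comap_span_singleton_algebraMap [Module.FaithfullyFlat A B] (a : A) :
    (Ideal.span {algebraMap A B a}).comap (algebraMap A B) = Ideal.span {a} := by
  rw [← Set.image_singleton, ← Ideal.map_span, Ideal.comap_map_eq_self_of_faithfullyFlat]

end Groth.Agent.Div21Lib
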