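import Groth.Agent.Div21Lib.GenMap
import Mathlib.RingTheory.Ideal.KrullsHeightTheorem
import Mathlib.RingTheory.Ideal.MinimalPrime.Noetherian
import Mathlib.RingTheory.UniqueFactorizationDomain.Kaplansky
import Mathlib.RingTheory.KrullDimension.Zero

/-! Locally factorial schemes and principal hypersurfaces. -/

set_option autoImplicit false
set_option backward.isDefEq.respectTransparency false
set_option backward.isDefEq.respectTransparency.types false
set_option linter.style.haveILetI false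
universe u

open CategoryTheory AlgebraicGeometry TopologicalSpace IsLocalRing

namespace Groth.Agent.Div21Lib

variable {A : Type u} [CommRing A] [IsNoetherianRing A]

theorem exists_height_one (a : A) (hu : ¬ IsUnit a) (ha : ∀ q ∈ minimalPrimes A, a ∉ q) :
    ∃ P : Ideal A, P.IsPrime ∧ a ∈ P ∧ P.height = 1 := by
  obtain ⟨P, hP⟩ := (Ideal.span {a}).nonempty_minimalPrimes (by rwa [Ne, Ideal.span_singleton_eq_top])
  haveI := hP.1.1
  have haP : a ∈ P := hP.1.2 (Ideal.mem_span_singleton_self a)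
  refine ⟨P, inferInstance, haP, le_antisymm (Ideal.height_le_one_of_isPrincipal_of_mem_minimalPrimes _ _ hP) ?_⟩
  rw [Order.one_le_iff_pos, pos_iff_ne_zero, Ne, Ideal.height_eq_zero_iff]
  exact fun h => ha P h haP

variable [IsLocalRing A]

theorem isDomain_of_principal_prime {P : Ideal A} (hP : P.IsPrime) (h1 : P.height = 1) {t : A}
    (ht : t ∈ nonZeroDivisors A) (he : P = Ideal.span {t}) : IsDomain A := by
  obtain ⟨q, hq, hqP⟩ := Ideal.exists_minimalPrimes_le (show (⊥ : Ideal A) ≤ P from bot_le)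
  haveI := hq.1.1
  have hne : q ≠ P := fun h => by
    have h0 : P.height = 0 := Ideal.height_eq_zero_iff.2 (h ▸ hq)
    rw [h1] at h0
    exact one_ne_zero h0
  have htq : t ∉ q := fun h => hne (le_antisymm hqP (he ▸ (Ideal.span_singleton_le_iff_mem q).2 h))
  have hle : q ≤ Ideal.span {t} • q := fun a ha => by
    obtain ⟨b, rfl⟩ := Ideal.mem_span_singleton.1 (he ▸ hqP ha : a ∈ Ideal.span {t})
    exact Submodule.smul_mem_smul (Ideal.mem_span_singleton_self t) ((Ideal.IsPrime.mem_or_mem ‹_› ha).resolve_left htq)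
  have h0 : q = ⊥ := Submodule.eq_bot_of_le_smul_of_le_jacobson_bot _ q (IsNoetherian.noetherian q) hle
    ((IsLocalRing.le_maximalIdeal (he ▸ hP.ne_top)).trans (IsLocalRing.maximalIdeal_le_jacobson ⊥))
  haveI : (⊥ : Ideal A).IsPrime := h0 ▸ ‹q.IsPrime›
  exact IsDomain.of_bot_isPrime A

theorem isDomain_ufm_of_principal (hdim : ¬ Ring.KrullDimLE 0 A)
    (h : ∀ P : Ideal A, P.IsPrime → P.height = 1 → ∃ t ∈ nonZeroDivisors A, P = Ideal.span {t}) :
    ∃ _ : IsDomain A, UniqueFactorizationMonoid A := by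
  classical
  have hm : ¬ (maximalIdeal A : Set A) ⊆
      ⋃ q ∈ (↑(minimalPrimes.finite_of_isNoetherianRing A).toFinset : Set (Ideal A)), (q : Set A) := by
    rw [Ideal.subset_union_prime ⊥ ⊥ fun q hq _ _ => ((Set.Finite.mem_toFinset _).1 hq).1.1]
    rintro ⟨q, hq, hle⟩
    rw [Set.Finite.mem_toFinset] at hq
    haveI := hq.1.1
    refine hdim (Ring.krullDimLE_zero_iff.2 fun P hP => ?_)
    have hP' : P = maximalIdeal A := le_antisymm (IsLocalRing.le_maximalIdeal hP.ne_top)
      (hle.trans (hq.2 ⟨hP, bot_le⟩ ((IsLocalRing.le_maximalIdeal hP.ne_top).trans hle)))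
    subst hP'
    infer_instance
  obtain ⟨a, ha, haq⟩ := Set.not_subset.1 hm
  obtain ⟨P, hP, -, h1⟩ := exists_height_one a (fun hu => (IsLocalRing.mem_maximalIdeal a).1 ha hu)
    fun q hq hmem => haq (Set.mem_biUnion ((Set.Finite.mem_toFinset _).2 hq) hmem)
  obtain ⟨t, ht, he⟩ := h P hP h1
  haveI := isDomain_of_principal_prime hP h1 ht he
  refine ⟨inferInstance, (UniqueFactorizationMonoid.iff_exists_prime_mem_of_isPrime).2 fun Q hQ hQp => ?_⟩
  obtain ⟨b, hb, hb0⟩ := Submodule.exists_mem_ne_zero_of_ne_bot hQ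
  obtain ⟨P', hP', hP'Q⟩ := Ideal.exists_minimalPrimes_le ((Ideal.span_singleton_le_iff_mem Q).2 hb)
  haveI := hP'.1.1
  have hbP' : b ∈ P' := hP'.1.2 (Ideal.mem_span_singleton_self b)
  have h1' : P'.height = 1 := le_antisymm (Ideal.height_le_one_of_isPrincipal_of_mem_minimalPrimes _ _ hP') (by
    rw [Order.one_le_iff_pos, pos_iff_ne_zero, Ne, Ideal.height_eq_zero_iff,
      IsDomain.minimalPrimes_eq_singleton_bot, Set.mem_singleton_iff]
    exact fun h0 => hb0 (by rw [h0, Ideal.mem_bot] at hbP'; exact hbP'))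
  obtain ⟨t', ht', he'⟩ := h P' inferInstance h1'
  exact ⟨t', hP'Q (he' ▸ Ideal.mem_span_singleton_self t'),
    (Ideal.span_singleton_prime (nonZeroDivisors.ne_zero ht')).1 (he' ▸ inferInstance)⟩

theorem principal_of_ufm [IsDomain A] [UniqueFactorizationMonoid A] {P : Ideal A} [P.IsPrime]
    (h1 : P.height = 1) : ∃ t ∈ nonZeroDivisors A, P = Ideal.span {t} := by
  have hne : P ≠ ⊥ := fun h => by rw [h, Ideal.height_bot] at h1; exact zero_ne_one h1
  obtain ⟨p, hpP, hp⟩ := (UniqueFactorizationMonoid.iff_exists_prime_mem_of_isPrime.1 ‹_›) P hne inferInstance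
  haveI : (Ideal.span {p}).IsPrime := (Ideal.span_singleton_prime hp.ne_zero).2 hp
  refine ⟨p, mem_nonZeroDivisors_iff_ne_zero.2 hp.ne_zero, ?_⟩
  refine ((Ideal.span_singleton_le_iff_mem P).2 hpP).eq_of_not_lt (fun hlt => ?_) |>.symm
  have h2 := Ideal.height_strict_mono_of_isPrime hlt
  rw [h1, Order.lt_one_iff, Ideal.height_eq_zero_iff, IsDomain.minimalPrimes_eq_singleton_bot,
    Set.mem_singleton_iff, Ideal.span_singleton_eq_bot] at h2
  exact hp.ne_zero h2

variable {X : Scheme.{u}} [IsLocallyNoetherian X]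

/-- A point with no proper generisation or specialisation is isolated. -/
theorem isOpen_singleton_of_closed_maximal {x : X} (hgen : ∀ z, z ⤳ x → z = x) (hcl : ∀ z, x ⤳ z → z = x) :
    IsOpen ({x} : Set X) := by
  classical
  obtain ⟨U, hU, hxU, -⟩ := exists_isAffineOpen_mem_and_subset (x := x) (U := ⊤) trivial
  haveI : IsNoetherianRing Γ(X, U) := IsLocallyNoetherian.component_noetherian ⟨U, hU⟩
  obtain ⟨p, hp⟩ : ∃ p, hU.fromSpec p = x := by
    have : x ∈ Set.range hU.fromSpec := by rw [hU.range_fromSpec]; exact hxU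
    exact this
  have hsp : ∀ q q', hU.fromSpec q ⤳ hU.fromSpec q' ↔ (q : PrimeSpectrum Γ(X, U)).asIdeal ≤ q'.asIdeal :=
    fun q q' => hU.fromSpec.isOpenEmbedding.isInducing.specializes_iff.trans
      (PrimeSpectrum.le_iff_specializes q q').symm
  have hin : Function.Injective hU.fromSpec := hU.fromSpec.isOpenEmbedding.injective
  have hmin : ∀ q : PrimeSpectrum Γ(X, U), q.asIdeal ≤ p.asIdeal → q = p := fun q hq =>
    hin (by rw [hp]; exact hgen _ (hp ▸ (hsp q p).2 hq))
  have hmax : ∀ q : PrimeSpectrum Γ(X, U), p.asIdeal ≤ q.asIdeal → q = p := fun q hq =>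
    hin (by rw [hp]; exact hcl _ (hp ▸ (hsp p q).2 hq))
  let S := (minimalPrimes.finite_of_isNoetherianRing Γ(X, U)).toFinset.erase p.asIdeal
  have hS : ¬ S.inf id ≤ p.asIdeal := fun h => by
    obtain ⟨q, hq, hle⟩ := (Ideal.IsPrime.inf_le' p.2).1 h
    obtain ⟨hne, hq'⟩ := Finset.mem_erase.1 hq
    rw [Set.Finite.mem_toFinset] at hq'
    exact hne (congrArg PrimeSpectrum.asIdeal (hmin ⟨q, hq'.1.1⟩ hle))
  obtain ⟨r, hr, hrp⟩ := SetLike.not_le_iff_exists.1 hS
  have : ({x} : Set X) = hU.fromSpec '' (PrimeSpectrum.basicOpen r : Set (PrimeSpectrum Γ(X, U))) := by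
    refine Set.Subset.antisymm (Set.singleton_subset_iff.2 ⟨p, hrp, hp⟩) ?_
    rintro _ ⟨q, hq, rfl⟩
    obtain ⟨m, hm, hmq⟩ := Ideal.exists_minimalPrimes_le (show (⊥ : Ideal Γ(X, U)) ≤ q.asIdeal from bot_le)
    have hmp : m = p.asIdeal := by
      by_contra hne
      exact hq (hmq ((Finset.inf_le (f := id) (Finset.mem_erase.2 ⟨hne, (Set.Finite.mem_toFinset _).2 hm⟩) : S.inf id ≤ m) hr))
    rw [hmax q (hmp ▸ hmq), hp]
    rfl
  rw [this]
  exact hU.fromSpec.isOpenEmbedding.isOpenMap _ (PrimeSpectrum.basicOpen r).isOpen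

/-- Locally factorial means that hypersurfaces are cut out by one regular element. -/
theorem factorial_iff (hred : ∀ x : X, IsOpen ({x} : Set X) → IsReduced (X.presheaf.stalk x)) :
    (∀ ζ : X, ringKrullDim (X.presheaf.stalk ζ) = 1 → ∀ (x : X) (h : ζ ⤳ x),
        ∃ t : X.presheaf.stalk x, t ∈ nonZeroDivisors (X.presheaf.stalk x) ∧
          (maximalIdeal (X.presheaf.stalk ζ)).comap (X.presheaf.stalkSpecializes h).hom = Ideal.span {t}) ↔
      ∀ x : X, ∃ _ : IsDomain (X.presheaf.stalk x), UniqueFactorizationMonoid (X.presheaf.stalk x) := by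
  have hht : ∀ {ζ x : X} (h : ζ ⤳ x),
      ringKrullDim (X.presheaf.stalk ζ) = ((CDiv6.primeOf h).asIdeal.height : WithBot ℕ∞) := fun {ζ x} h => by
    letI := (X.presheaf.stalkSpecializes h).hom.toAlgebra
    haveI := H23.StalkPrimes.isLocalization_primeOf h
    exact IsLocalization.AtPrime.ringKrullDim_eq_height _ _
  constructor
  · intro h
    have big : ∀ x : X, ¬ Ring.KrullDimLE 0 (X.presheaf.stalk x) →
        ∃ _ : IsDomain (X.presheaf.stalk x), UniqueFactorizationMonoid (X.presheaf.stalk x) := fun x hx =>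
      isDomain_ufm_of_principal hx fun P hP h1 => by
        obtain ⟨ζ, hζ, rfl⟩ := H23.StalkPrimes.exists_point P
        exact h ζ (by rw [hht hζ, h1]; rfl) x hζ
    intro x
    by_cases hx : Ring.KrullDimLE 0 (X.presheaf.stalk x)
    swap
    · exact big x hx
    haveI := hx
    have hf : IsField (X.presheaf.stalk x) := by
      by_cases hcl : ∀ z, x ⤳ z → z = x
      · haveI := hred x (isOpen_singleton_of_closed_maximal (fun z hz => by_contra fun hne => by
          have h1 := ringKrullDim_stalk_lt hz hne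
          rw [Ring.krullDimLE_iff] at hx
          exact absurd (ringKrullDim_nonneg_of_nontrivial (R := X.presheaf.stalk z))
            (not_le.2 (lt_of_lt_of_le h1 (le_trans hx (le_of_eq (by rfl)))))) hcl)
        exact Ring.KrullDimLE.isField_of_isReduced
      · push Not at hcl
        obtain ⟨z, hxz, hne⟩ := hcl
        obtain ⟨hd, -⟩ := big z fun hz => by
          have h1 := ringKrullDim_stalk_lt hxz (Ne.symm hne)
          rw [Ring.krullDimLE_iff] at hz
          exact absurd (ringKrullDim_nonneg_of_nontrivial (R := X.presheaf.stalk x))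
            (not_le.2 (lt_of_lt_of_le h1 (le_trans hz (le_of_eq (by rfl)))))
        letI := (X.presheaf.stalkSpecializes hxz).hom.toAlgebra
        haveI := H23.StalkPrimes.isLocalization_primeOf hxz
        haveI : IsDomain (X.presheaf.stalk x) :=
          IsLocalization.isDomain_of_le_nonZeroDivisors _
            (CDiv6.primeOf hxz).asIdeal.primeCompl_le_nonZeroDivisors
        exact Ring.KrullDimLE.isField_of_isDomain
    letI := hf.toField
    exact ⟨inferInstance, inferInstance⟩
  · intro h ζ hζ x hx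
    obtain ⟨_, _⟩ := h x
    obtain ⟨t, ht, he⟩ := principal_of_ufm (P := (CDiv6.primeOf hx).asIdeal)
      (WithBot.coe_injective ((hht hx).symm.trans hζ))
    exact ⟨t, ht, he⟩

end Groth.Agent.Div21Lib
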