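import Groth.Agent.Div21Lib.StalkIdeal
import Groth.Agent.H23.StalkPrimes
import Mathlib.AlgebraicGeometry.Morphisms.UniversallyOpen
import Mathlib.RingTheory.RingHom.FaithfullyFlat

/-! The maps of local rings attached to a flat morphism and a generisation of a point of the target. -/

set_option autoImplicit false
set_option backward.isDefEq.respectTransparency false
set_option backward.isDefEq.respectTransparency.types false
set_option linter.style.haveILetI false
universe u

open CategoryTheory AlgebraicGeometry TopologicalSpace IsLocalRing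

noncomputable section

namespace Groth.Agent.Div21Lib

variable {X Y : Scheme.{u}} (f : X ⟶ Y)

/-- `O_y → O_x` for a point `x` whose image is a generisation of `y`. -/
def gm {x : X} {y : Y} (h : f x ⤳ y) : Y.presheaf.stalk y →+* X.presheaf.stalk x :=
  (Y.presheaf.stalkSpecializes h ≫ f.stalkMap x).hom

theorem gm_refl (x : X) : gm f (specializes_refl (f x)) = (f.stalkMap x).hom := by
  rw [gm, TopCat.Presheaf.stalkSpecializes_refl, Category.id_comp]

theorem gm_comp {x : X} {y' y : Y} (h : f x ⤳ y') (h' : y' ⤳ y) :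
    gm f (h.trans h') = (gm f h).comp (Y.presheaf.stalkSpecializes h').hom := by
  rw [gm, gm, ← TopCat.Presheaf.stalkSpecializes_comp, Category.assoc, CommRingCat.hom_comp]

theorem gm_eq {x : X} {y : Y} (h : f x ⤳ y) :
    gm f h = (f.stalkMap x).hom.comp (Y.presheaf.stalkSpecializes h).hom := rfl

theorem gm_generize {x' x : X} {y : Y} (hx : x' ⤳ x) (h : f x ⤳ y) :
    gm f ((hx.map f.continuous).trans h) = (X.presheaf.stalkSpecializes hx).hom.comp (gm f h) := by
  rw [gm, gm, ← CommRingCat.hom_comp, ← TopCat.Presheaf.stalkSpecializes_comp Y.presheaf (hx.map f.continuous) h, Category.assoc, Category.assoc]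
  congr 2
  exact Scheme.Hom.stalkSpecializes_stalkMap f x' x hx

theorem gm_germ {x : X} {y : Y} (h : f x ⤳ y) (V : Y.Opens) (hy : y ∈ V) (U : X.Opens) (hx : x ∈ U)
    (e : U ≤ f ⁻¹ᵁ V) (s : Γ(Y, V)) :
    gm f h (Y.presheaf.germ V y hy s) = X.presheaf.germ U x hx (f.appLE V U e s) := by
  rw [gm_eq, RingHom.comp_apply]
  erw [Y.presheaf.germ_stalkSpecializes_apply (U := V) hy h s]
  rw [Scheme.Hom.germ_stalkMap_apply, Scheme.Hom.appLE, CommRingCat.comp_apply,
    TopCat.Presheaf.germ_res_apply]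

theorem exists_generization [Flat f] {x : X} {y' : Y} (h : y' ⤳ f x) : ∃ x', x' ⤳ x ∧ f x' = y' :=
  Flat.generalizingMap f h

theorem isLocalHom_gm {x : X} {y : Y} (h : f x = y) : IsLocalHom (gm f (specializes_of_eq h)) := by
  subst h
  rw [gm_refl]
  infer_instance

theorem flat_gm [Flat f] {x : X} {y : Y} (h : f x = y) : (gm f (specializes_of_eq h)).Flat := by
  subst h
  rw [gm_refl]
  exact Flat.stalkMap f x

theorem comap_map_gm [Flat f] {x : X} {y : Y} (h : f x = y) (K : Ideal (Y.presheaf.stalk y)) :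
    (K.map (gm f (specializes_of_eq h))).comap (gm f (specializes_of_eq h)) = K := by
  letI := (gm f (specializes_of_eq h)).toAlgebra
  haveI : Module.Flat (Y.presheaf.stalk y) (X.presheaf.stalk x) := flat_gm f h
  haveI : IsLocalHom (algebraMap (Y.presheaf.stalk y) (X.presheaf.stalk x)) := isLocalHom_gm f h
  haveI : Module.FaithfullyFlat (Y.presheaf.stalk y) (X.presheaf.stalk x) :=
    Module.FaithfullyFlat.of_flat_of_isLocalHom
  exact Ideal.comap_map_eq_self_of_faithfullyFlat K

/-- Strict generisations have smaller dimension. -/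
theorem ringKrullDim_stalk_lt [IsLocallyNoetherian Y] {y' y : Y} (h : y' ⤳ y) (hne : y' ≠ y) :
    ringKrullDim (Y.presheaf.stalk y') < ringKrullDim (Y.presheaf.stalk y) := by
  letI := (Y.presheaf.stalkSpecializes h).hom.toAlgebra
  haveI := H23.StalkPrimes.isLocalization_primeOf h
  rw [IsLocalization.AtPrime.ringKrullDim_eq_height (CDiv6.primeOf h).asIdeal (Y.presheaf.stalk y'),
    ← IsLocalRing.maximalIdeal_height_eq_ringKrullDim, WithBot.coe_lt_coe]
  refine Ideal.height_strict_mono_of_isPrime ((IsLocalRing.le_maximalIdeal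
    (Ideal.IsPrime.ne_top inferInstance)).lt_of_ne fun he => hne ?_)
  have h1 : CDiv6.primeOf h = closedPoint (Y.presheaf.stalk y) := PrimeSpectrum.ext he
  rw [← CDiv6.fromSpecStalk_primeOf h, h1]
  exact Scheme.fromSpecStalk_closedPoint

theorem primeOf_ne_maximal {y' y : Y} (h : y' ⤳ y) (hne : (CDiv6.primeOf h).asIdeal ≠ maximalIdeal _) :
    y' ≠ y := by
  rintro rfl
  apply hne
  ext t
  rw [CDiv6.mem_primeOf, TopCat.Presheaf.stalkSpecializes_refl, IsLocalRing.mem_maximalIdeal, mem_nonunits_iff]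
  rfl

/-- A divisibility in a local ring which holds at all points over a generisation `y'` holds up to a
denominator invertible at `y'`. -/
theorem exists_mul_dvd {x : X} {y' : Y} (h' : y' ⤳ f x) (u v : X.presheaf.stalk x)
    (H : ∀ (x' : X) (hx : x' ⤳ x), f x' ⤳ y' →
      X.presheaf.stalkSpecializes hx u ∣ X.presheaf.stalkSpecializes hx v) :
    ∃ t, t ∉ (CDiv6.primeOf h').asIdeal ∧ u ∣ f.stalkMap x t * v := by
  by_contra hno
  push Not at hno
  let K : Ideal (X.presheaf.stalk x) := (Ideal.span {u}).colon ({v} : Set (X.presheaf.stalk x))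
  have hK : ∀ t, t ∈ K ↔ u ∣ t * v := fun t => by
    rw [Submodule.mem_colon_singleton, smul_eq_mul, Ideal.mem_span_singleton]
  have hdisj : Disjoint (K : Set (X.presheaf.stalk x))
      ↑((CDiv6.primeOf h').asIdeal.primeCompl.map (f.stalkMap x).hom) := by
    rw [Set.disjoint_left]
    rintro _ hz ⟨t, ht, rfl⟩
    exact hno t ht ((hK _).1 hz)
  obtain ⟨Q, hQ, hKQ, hQd⟩ := Ideal.exists_le_prime_disjoint _ _ hdisj
  haveI := hQ
  obtain ⟨x', hx, hQx⟩ := H23.StalkPrimes.exists_point Q
  have hle : (CDiv6.primeOf (hx.map f.continuous)).asIdeal ≤ (CDiv6.primeOf h').asIdeal := by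
    rw [← H23.StalkPrimes.comap_primeOf f hx, hQx]
    intro t ht
    by_contra hn
    exact Set.disjoint_left.1 hQd ht ⟨t, hn, rfl⟩
  obtain ⟨w, hw⟩ := H x' hx ((H23.StalkPrimes.primeOf_le_iff h' (hx.map f.continuous)).1 hle)
  letI := (X.presheaf.stalkSpecializes hx).hom.toAlgebra
  haveI := H23.StalkPrimes.isLocalization_primeOf hx
  obtain ⟨c, ⟨s, hs⟩, rfl⟩ := IsLocalization.exists_mk'_eq (CDiv6.primeOf hx).asIdeal.primeCompl w
  have h1 : algebraMap _ (X.presheaf.stalk x') (s * v) = algebraMap _ (X.presheaf.stalk x') (u * c) := by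
    rw [map_mul, map_mul]
    refine (congrArg _ hw).trans ?_
    rw [mul_left_comm]
    exact congrArg _ (IsLocalization.mk'_spec' _ c (⟨s, hs⟩ : (CDiv6.primeOf hx).asIdeal.primeCompl))
  obtain ⟨⟨r, hr⟩, hr'⟩ := (IsLocalization.eq_iff_exists (CDiv6.primeOf hx).asIdeal.primeCompl _).1 h1
  refine Submonoid.mul_mem _ hr hs (hQx.symm ▸ hKQ ((hK _).2 ⟨r * c, ?_⟩))
  calc r * s * v = r * (s * v) := mul_assoc _ _ _
    _ = r * (u * c) := hr'
    _ = u * (r * c) := mul_left_comm _ _ _

end Groth.Agent.Div21Lib
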