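import Groth.Agent.Div21Lib.GenMap
import Groth.Agent.Div21Lib.Descent

/-! A divisor descends at all local rings as soon as it descends at those of depth at most one. -/

set_option autoImplicit false
set_option backward.isDefEq.respectTransparency false
set_option backward.isDefEq.respectTransparency.types false
set_option linter.style.haveILetI false
universe u

open CategoryTheory CategoryTheory.Limits AlgebraicGeometry TopologicalSpace IsLocalRing

noncomputable section

namespace Groth.Agent.Div21Lib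

variable {X Y : Scheme.{u}} (f : X ⟶ Y) (J : X.IdealSheafData)

/-- `I` is the ideal at `y` of a divisor which pulls back to `J`. -/
def Desc (y : Y) (I : Ideal (Y.presheaf.stalk y)) : Prop :=
  (∃ a ∈ nonZeroDivisors (Y.presheaf.stalk y), I = Ideal.span {a}) ∧
    ∀ (x : X) (h : f x = y), I.map (gm f (specializes_of_eq h)) = stI J x

variable [Flat f] [Surjective f]

theorem Desc.unique {y : Y} {I I' : Ideal (Y.presheaf.stalk y)} (h : Desc f J y I) (h' : Desc f J y I') :
    I = I' := by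
  obtain ⟨x, hx⟩ := f.surjective y
  rw [← comap_map_gm f hx I, ← comap_map_gm f hx I', h.2 x hx, h'.2 x hx]

omit [Surjective f] in
/-- The ideal at a point determines the ideal at its generisations. -/
theorem map_eq_of_desc {y' y : Y} (h : y' ⤳ y) {x : X} (hx : f x = y) {I : Ideal (Y.presheaf.stalk y)}
    (hI : I.map (gm f (specializes_of_eq hx)) = stI J x) {I' : Ideal (Y.presheaf.stalk y')}
    (hI' : Desc f J y' I') : I.map (Y.presheaf.stalkSpecializes h).hom = I' := by
  obtain ⟨x', hx', hfx'⟩ := exists_generization f (x := x) (y' := y') (hx.symm ▸ h)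
  rw [← comap_map_gm f hfx' (I.map _), ← comap_map_gm f hfx' I', hI'.2 x' hfx', Ideal.map_map, ← gm_comp]
  congr 1
  have e := gm_generize f hx' (specializes_of_eq hx)
  rw [show gm f ((specializes_of_eq hfx').trans h) = gm f ((hx'.map f.continuous).trans (specializes_of_eq hx)) from rfl,
    e, ← Ideal.map_map, hI, stI_generize]

theorem map_gm_of_desc {y : Y} {I : Ideal (Y.presheaf.stalk y)} (hI : Desc f J y I) {x : X} (h : f x ⤳ y)
    (hP : ∃ I', Desc f J (f x) I') : I.map (gm f h) = stI J x := by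
  obtain ⟨I', hI'⟩ := hP
  obtain ⟨x₀, hx₀⟩ := f.surjective y
  rw [gm_eq, ← Ideal.map_map, map_eq_of_desc f J h hx₀ (hI.2 x₀ hx₀) hI', ← gm_refl]
  exact hI'.2 x rfl

variable [IsLocallyNoetherian X] [IsLocallyNoetherian Y] (hJ : BlowUp.IsEffCartierIdeal J)

include hJ in
/-- In depth at least two, descent holds at `f x` if it holds at all strict generisations. -/
theorem exists_gen_at (x : X) (hd : (2 : ℕ∞) ≤ LocCoh.depth (Y.presheaf.stalk (f x)) (Y.presheaf.stalk (f x)))
    (hP : ∀ y', y' ⤳ f x → y' ≠ f x → ∃ I, Desc f J y' I) :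
    ∃ a ∈ nonZeroDivisors (Y.presheaf.stalk (f x)), (Ideal.span {a}).map (f.stalkMap x).hom = stI J x := by
  letI := (f.stalkMap x).hom.toAlgebra
  haveI : Module.Flat (Y.presheaf.stalk (f x)) (X.presheaf.stalk x) := Flat.stalkMap f x
  haveI : IsLocalHom (algebraMap (Y.presheaf.stalk (f x)) (X.presheaf.stalk x)) :=
    inferInstanceAs (IsLocalHom (f.stalkMap x).hom)
  obtain ⟨g, hg, hgJ⟩ := exists_stI_generator hJ x
  suffices h : ∀ p : Ideal (Y.presheaf.stalk (f x)), p.IsPrime → p ≠ maximalIdeal _ →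
      ∃ t, t ∉ p ∧ f.stalkMap x t * g ∈
        ((Ideal.span {g}).comap (f.stalkMap x).hom).map (f.stalkMap x).hom by
    obtain ⟨a, ha, he⟩ := exists_generator_of_off_closed hd hg h
    exact ⟨a, ha, by rw [hgJ, Ideal.map_span, Set.image_singleton]; exact he⟩
  intro p hp hne
  haveI := hp
  obtain ⟨y', h', rfl⟩ := H23.StalkPrimes.exists_point p
  have hy' : y' ≠ f x := primeOf_ne_maximal h' hne
  obtain ⟨I', hI'⟩ := hP y' h' hy'
  obtain ⟨⟨a', -, ha'⟩, -⟩ := id hI'
  letI := (Y.presheaf.stalkSpecializes h').hom.toAlgebra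
  haveI := H23.StalkPrimes.isLocalization_primeOf h'
  obtain ⟨c, s, hcs⟩ := IsLocalization.exists_mk'_eq (CDiv6.primeOf h').asIdeal.primeCompl a'
  have hc : I' = Ideal.span {Y.presheaf.stalkSpecializes h' c} := by
    rw [ha', ← Ideal.span_singleton_mul_right_unit (IsLocalization.map_units (Y.presheaf.stalk y') s) a', ← hcs,
      IsLocalization.mk'_spec]
    rfl
  have key : ∀ (x' : X) (hx : x' ⤳ x), f x' ⤳ y' →
      Ideal.span {X.presheaf.stalkSpecializes hx (f.stalkMap x c)} =
        Ideal.span {X.presheaf.stalkSpecializes hx g} := by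
    intro x' hx hxy
    have hne' : f x' ≠ f x := fun he => hy' (h'.antisymm (he ▸ hxy)).eq
    have h1 := map_gm_of_desc f J hI' hxy (hP _ (hxy.trans h') hne')
    rw [hc, Ideal.map_span, Set.image_singleton, ← stI_generize J hx, hgJ, Ideal.map_span,
      Set.image_singleton] at h1
    rw [← h1]
    congr 2
    show (X.presheaf.stalkSpecializes hx).hom ((f.stalkMap x).hom c) = gm f hxy _
    rw [← RingHom.comp_apply, ← gm_refl, ← gm_generize f hx (specializes_refl (f x))]
    show gm f _ c = _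
    rw [show ((hx.map f.continuous).trans (specializes_refl (f x))) = hxy.trans h' from rfl, gm_comp]
    rfl
  obtain ⟨t₁, ht₁, d₁⟩ := exists_mul_dvd f h' g (f.stalkMap x c) fun x' hx hxy =>
    Ideal.span_singleton_le_span_singleton.1 (key x' hx hxy).le
  obtain ⟨t₂, ht₂, d₂⟩ := exists_mul_dvd f h' (f.stalkMap x c) g fun x' hx hxy =>
    Ideal.span_singleton_le_span_singleton.1 (key x' hx hxy).ge
  refine ⟨t₁ * t₂, Submonoid.mul_mem (CDiv6.primeOf h').asIdeal.primeCompl ht₁ ht₂, ?_⟩
  obtain ⟨e, he⟩ := d₂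
  rw [map_mul, mul_assoc, he, ← mul_assoc]
  refine Ideal.mul_mem_right _ _ ?_
  rw [← map_mul]
  refine Ideal.mem_map_of_mem _ (Ideal.mem_comap.2 (Ideal.mem_span_singleton.2 ?_))
  rw [map_mul]
  exact d₁

include hJ in
theorem desc_of_two_le_depth (y : Y) (hd : (2 : ℕ∞) ≤ LocCoh.depth (Y.presheaf.stalk y) (Y.presheaf.stalk y))
    (hP : ∀ y', y' ⤳ y → y' ≠ y → ∃ I, Desc f J y' I) : ∃ I, Desc f J y I := by
  have hgen : ∀ (x : X) (h : f x = y), ∃ a ∈ nonZeroDivisors (Y.presheaf.stalk y),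
      (Ideal.span {a}).map (gm f (specializes_of_eq h)) = stI J x := by
    rintro x rfl
    rw [gm_refl]
    exact exists_gen_at f J hJ x hd hP
  obtain ⟨x₀, hx₀⟩ := f.surjective y
  obtain ⟨a₀, ha₀, h₀⟩ := hgen x₀ hx₀
  refine ⟨Ideal.span {a₀}, ⟨a₀, ha₀, rfl⟩, fun x hx => ?_⟩
  obtain ⟨a₁, ha₁, h₁⟩ := hgen x hx
  suffices ∀ a b : Y.presheaf.stalk y, b ∈ nonZeroDivisors _ →
      (∀ (y' : Y) (h : y' ⤳ y), y' ≠ y →
        (Ideal.span {a}).map (Y.presheaf.stalkSpecializes h).hom = (Ideal.span {b}).map (Y.presheaf.stalkSpecializes h).hom) →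
      b ∣ a by
    have heq : ∀ (y' : Y) (h : y' ⤳ y), y' ≠ y →
        (Ideal.span {a₀}).map (Y.presheaf.stalkSpecializes h).hom =
          (Ideal.span {a₁}).map (Y.presheaf.stalkSpecializes h).hom := fun y' h hne => by
      obtain ⟨I', hI'⟩ := hP y' h hne
      rw [map_eq_of_desc f J h hx₀ h₀ hI', map_eq_of_desc f J h hx h₁ hI']
    have he : Ideal.span {a₀} = Ideal.span {a₁} := le_antisymm
      (Ideal.span_singleton_le_span_singleton.2 (this a₀ a₁ ha₁ heq))
      (Ideal.span_singleton_le_span_singleton.2 (this a₁ a₀ ha₀ fun y' h hne => (heq y' h hne).symm))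
    rw [he]
    exact h₁
  intro a b hb hab
  refine dvd_of_dvd_off_fibre (A := Y.presheaf.stalk y) (B := Y.presheaf.stalk y) hd hb fun t ht => ?_
  obtain ⟨n, hn⟩ := exists_pow_mem (T := (Ideal.span {b}).colon ({a} : Set (Y.presheaf.stalk y)))
    (fun p hp hle => by
      by_contra hne
      haveI := hp
      obtain ⟨y', h', rfl⟩ := H23.StalkPrimes.exists_point p
      have h1 := (hab y' h' (primeOf_ne_maximal h' hne)).le
      rw [Ideal.map_span, Ideal.map_span, Set.image_singleton, Set.image_singleton,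
        Ideal.span_singleton_le_span_singleton] at h1
      obtain ⟨w, hw⟩ := h1
      letI := (Y.presheaf.stalkSpecializes h').hom.toAlgebra
      haveI := H23.StalkPrimes.isLocalization_primeOf h'
      obtain ⟨c, s, rfl⟩ := IsLocalization.exists_mk'_eq (CDiv6.primeOf h').asIdeal.primeCompl w
      have h2 : algebraMap _ (Y.presheaf.stalk y') (↑s * a) = algebraMap _ (Y.presheaf.stalk y') (b * c) := by
        rw [map_mul, map_mul]
        refine (congrArg _ hw).trans ?_
        rw [mul_left_comm]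
        exact congrArg _ (IsLocalization.mk'_spec' _ c s)
      obtain ⟨r, hr⟩ := (IsLocalization.eq_iff_exists (CDiv6.primeOf h').asIdeal.primeCompl _).1 h2
      refine Submonoid.mul_mem _ r.2 s.2 (hle ?_)
      rw [Submodule.mem_colon_singleton, smul_eq_mul, Ideal.mem_span_singleton, mul_assoc, hr]
      exact ⟨r * c, mul_left_comm _ _ _⟩) ht
  rw [Submodule.mem_colon_singleton, smul_eq_mul, Ideal.mem_span_singleton] at hn
  exact ⟨n, by rwa [Algebra.algebraMap_self_apply]⟩

theorem comap_fromSpecStalk_ideal {Z : Scheme.{u}} (I : Z.IdealSheafData) (z : Z) :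
    (I.comap (Z.fromSpecStalk z)).ideal ⟨⊤, isAffineOpen_top _⟩ =
      (stI I z).map (Scheme.ΓSpecIso (Z.presheaf.stalk z)).inv.hom := by
  obtain ⟨U, hU, hzU, -⟩ := exists_isAffineOpen_mem_and_subset (x := z) (U := ⊤) trivial
  have e : (⊤ : (Spec (Z.presheaf.stalk z)).Opens) ≤ Z.fromSpecStalk z ⁻¹ᵁ U := fun q _ =>
    (CDiv6.fromSpecStalk_specializes q).mem_open U.isOpen hzU
  rw [ModPairLib.ideal_comap I (Z.fromSpecStalk z) ⟨U, hU⟩ ⟨⊤, isAffineOpen_top _⟩ e, stI_eq I ⟨U, hU⟩ hzU,
    Ideal.map_map, ← CommRingCat.hom_comp]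
  congr 2
  rw [Scheme.Hom.appLE, Scheme.fromSpecStalk_app hzU, Category.assoc, Category.assoc, ← Functor.map_comp]
  erw [(Spec (Z.presheaf.stalk z)).presheaf.map_id]
  rw [Category.comp_id]

omit [Flat f] [Surjective f] [IsLocallyNoetherian X] [IsLocallyNoetherian Y] in
theorem desc_of_hyp (y : Y)
    (h : ∃ I₁ : (Spec (Y.presheaf.stalk y)).IdealSheafData, BlowUp.IsEffCartierIdeal I₁ ∧
      I₁.comap (pullback.snd f (Y.fromSpecStalk y)) = J.comap (pullback.fst f (Y.fromSpecStalk y))) :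
    ∃ I, Desc f J y I := by
  obtain ⟨I₁, hI₁, heq⟩ := h
  obtain ⟨U, hmU, a₁, ha₁, hU⟩ := hI₁ (closedPoint (Y.presheaf.stalk y))
  obtain rfl : U = ⟨⊤, isAffineOpen_top _⟩ := Subtype.ext (TopologicalSpace.Opens.ext (Set.eq_univ_of_forall
    fun q => (IsLocalRing.specializes_closedPoint q).mem_open U.1.isOpen hmU))
  obtain ⟨a, rfl⟩ : ∃ a, a₁ = (Scheme.ΓSpecIso (Y.presheaf.stalk y)).inv a :=
    ⟨(Scheme.ΓSpecIso (Y.presheaf.stalk y)).hom a₁,
      by rw [← CommRingCat.comp_apply, Iso.hom_inv_id]; rfl⟩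
  have hi := ConcreteCategory.bijective_of_isIso (Scheme.ΓSpecIso (Y.presheaf.stalk y)).inv
  refine ⟨Ideal.span {a}, ⟨a, mem_nonZeroDivisors_iff_right.2 fun z hz => hi.1 ?_, rfl⟩, fun x hx => ?_⟩
  · rw [map_zero]
    refine mem_nonZeroDivisors_iff_right.1 ha₁ _ ?_
    rw [← map_mul, hz, map_zero]
  let φ : Y.presheaf.stalk y ⟶ X.presheaf.stalk x :=
    Y.presheaf.stalkSpecializes (specializes_of_eq hx) ≫ f.stalkMap x
  let l : Spec (X.presheaf.stalk x) ⟶ pullback f (Y.fromSpecStalk y) :=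
    pullback.lift (X.fromSpecStalk x) (Spec.map φ) (by
      rw [Spec.map_comp, Category.assoc, Scheme.SpecMap_stalkSpecializes_fromSpecStalk,
        Scheme.SpecMap_stalkMap_fromSpecStalk])
  have h2 := congrArg (fun K => (Scheme.IdealSheafData.comap K l).ideal ⟨⊤, isAffineOpen_top _⟩) heq
  simp only [← Scheme.IdealSheafData.comap_comp, l, pullback.lift_fst, pullback.lift_snd] at h2
  rw [comap_fromSpecStalk_ideal, ModPairLib.comap_ideal_affine, hU, Ideal.map_span, Set.image_singleton] at h2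
  have h3 := congrArg (Ideal.comap (Scheme.ΓSpecIso (X.presheaf.stalk x)).inv.hom) h2
  rw [Ideal.comap_map_of_bijective _ (ConcreteCategory.bijective_of_isIso (Scheme.ΓSpecIso (X.presheaf.stalk x)).inv)] at h3
  rw [← h3]
  have h4 : (Spec.map φ).appTop ((Scheme.ΓSpecIso (Y.presheaf.stalk y)).inv a) =
      (Scheme.ΓSpecIso (X.presheaf.stalk x)).inv (φ a) :=
    (ConcreteCategory.congr_hom (Scheme.ΓSpecIso_inv_naturality φ) a).symm
  rw [Ideal.map_span, Set.image_singleton]
  erw [h4]
  refine ((Ideal.comap_map_of_bijective _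
    (ConcreteCategory.bijective_of_isIso (Scheme.ΓSpecIso (X.presheaf.stalk x)).inv)).symm).trans ?_
  rw [Ideal.map_span, Set.image_singleton]
  rfl

include hJ in
theorem desc_all (h : ∀ y : Y, LocCoh.depth (Y.presheaf.stalk y) (Y.presheaf.stalk y) ≤ 1 → ∃ I, Desc f J y I)
    (y : Y) : ∃ I, Desc f J y I := by
  induction y using (InvImage.wf (fun y : Y => ringKrullDim (Y.presheaf.stalk y)) wellFounded_lt).induction with
  | _ y ih =>
    by_cases hd : LocCoh.depth (Y.presheaf.stalk y) (Y.presheaf.stalk y) ≤ 1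
    · exact h y hd
    · refine desc_of_two_le_depth f J hJ y ?_ fun y' h' hne => ih y' (ringKrullDim_stalk_lt h' hne)
      rw [not_le] at hd
      exact (ENat.add_one_le_iff (by simp)).2 hd |>.trans' (by norm_num)

end Groth.Agent.Div21Lib
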