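import Groth.Agent.Div21Lib.TrivialSpan
import Groth.Agent.Div21Lib.GenMap
import Groth.Agent.Ref1X.OD2
import Groth.Agent.ParaFX.Ufd

/-! Divisors on a normal scheme which are principal at all strict generisations of a parafactorial
point are principal there. -/

set_option autoImplicit false
set_option backward.isDefEq.respectTransparency false
set_option backward.isDefEq.respectTransparency.types false
set_option linter.style.haveILetI false
universe u

open CategoryTheory AlgebraicGeometry TopologicalSpace IsLocalRing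

noncomputable section

namespace Groth.Agent.Div21Lib

variable {X : Scheme.{u}} [IsIntegral X] [IsLocallyNoetherian X]

/-- The embedding of a local ring in the rational functions. -/
abbrev ia (x : X) : X.presheaf.stalk x →+* X.functionField :=
  algebraMap (X.presheaf.stalk x) X.functionField

omit [IsLocallyNoetherian X] in
theorem ia_inj {x : X} {a : X.presheaf.stalk x} : ia x a = 0 ↔ a = 0 :=
  map_eq_zero_iff _ (IsFractionRing.injective (X.presheaf.stalk x) X.functionField)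

omit [IsLocallyNoetherian X] in
theorem ia_reg {x z : X} (h : z ⤳ x) (a : X.presheaf.stalk x) : CDiv6.Reg z (ia x a) :=
  ⟨_, CDiv6.algebraMap_specializes h a⟩

theorem finite_gen {Z : X → ℤ} (hZfin : ∀ x : X, ∃ W : X.Opens, x ∈ W ∧ {z : X | z ∈ W ∧ Z z ≠ 0}.Finite) (x : X) :
    {z : X | z ⤳ x ∧ Z z ≠ 0}.Finite := by
  obtain ⟨W, hxW, hW⟩ := hZfin x
  exact hW.subset fun z hz => ⟨hz.1.mem_open W.isOpen hxW, hz.2⟩

/-- Nonnegativity of the difference with a divisor is closed under multiples and sums. -/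
def qIdeal (hX : Pi1.IsNormalScheme X) (Z : X → ℤ) (x : X) : Ideal (X.presheaf.stalk x) where
  carrier := {a | ∀ z : X, z ⤳ x → Order.coheight z = 1 → Ref1X.OD.Cond (fun y => -Z y) z (ia x a)}
  zero_mem' z _ _ := Or.inl (map_zero _)
  add_mem' {a b} ha hb z hz h1 := by
    rw [map_add]
    exact Ref1X.OD.cond_add hX _ h1 (ha z hz h1) (hb z hz h1)
  smul_mem' c a ha z hz h1 := by
    rw [smul_eq_mul, map_mul]
    exact Ref1X.OD.cond_mul _ (ia_reg hz c) (ha z hz h1)

theorem mem_qIdeal {hX : Pi1.IsNormalScheme X} {Z : X → ℤ} {x : X} {a : X.presheaf.stalk x} (ha : a ≠ 0) :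
    a ∈ qIdeal hX Z x ↔ ∀ z : X, z ⤳ x → Order.coheight z = 1 → Z z ≤ Scheme.ord (ia x a) z := by
  refine forall_congr' fun z => forall_congr' fun _ => forall_congr' fun _ => ?_
  show (ia x a = 0 ∨ - - Z z ≤ Scheme.ord (ia x a) z) ↔ _
  rw [ia_inj, neg_neg]
  exact or_iff_right ha

variable (hX : Pi1.IsNormalScheme X)

include hX in
/-- An element with large orders at given codimension one points, invertible at a point off them. -/
theorem exists_big (x : X) {y : X} (hy : y ⤳ x) (T : Finset X) (hT : ∀ z ∈ T, z ⤳ x ∧ Order.coheight z = 1)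
    (hTy : ∀ z ∈ T, ¬ z ⤳ y) (n : X → ℕ) :
    ∃ u : X.presheaf.stalk x, u ∉ (CDiv6.primeOf hy).asIdeal ∧ u ≠ 0 ∧
      ∀ z ∈ T, (n z : ℤ) ≤ Scheme.ord (ia x u) z := by
  classical
  induction T using Finset.induction_on with
  | empty =>
    exact ⟨1, fun h => (CDiv6.primeOf hy).isPrime.ne_top ((Ideal.eq_top_iff_one _).2 h), one_ne_zero, by simp⟩
  | insert z₀ T hz₀ ih =>
    obtain ⟨u, hu, hu0, hord⟩ := ih (fun z hz => hT z (Finset.mem_insert_of_mem hz))
      (fun z hz => hTy z (Finset.mem_insert_of_mem hz))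
    obtain ⟨hzx, hz1⟩ := hT z₀ (Finset.mem_insert_self _ _)
    obtain ⟨g, hg, hgy⟩ := SetLike.not_le_iff_exists.1 fun h => hTy z₀ (Finset.mem_insert_self _ _)
      ((H23.StalkPrimes.primeOf_le_iff hy hzx).1 h)
    have hg0 : g ≠ 0 := fun h => hgy (h ▸ zero_mem _)
    have hgn : g ^ n z₀ ≠ 0 := pow_ne_zero _ hg0
    refine ⟨g ^ n z₀ * u, Submonoid.mul_mem (CDiv6.primeOf hy).asIdeal.primeCompl
      (Submonoid.pow_mem (CDiv6.primeOf hy).asIdeal.primeCompl hgy _) hu, mul_ne_zero hgn hu0, fun z hz => ?_⟩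
    have hiu : ia x u ≠ 0 := fun h => hu0 (ia_inj.1 h)
    have hig : ia x g ≠ 0 := fun h => hg0 (ia_inj.1 h)
    rw [map_mul, map_pow, Scheme.ord_mul (pow_ne_zero _ hig) hiu, Ref1X.OD.ord_pow hig]
    rcases Finset.mem_insert.1 hz with rfl | hz
    · have h1 : 1 ≤ Scheme.ord (ia x g) z := CDiv6.one_le_ord_toK hX hzx hz1 hg0 hg
      have h2 : 0 ≤ Scheme.ord (ia x u) z := CDiv6.reg_ord_nonneg hiu (ia_reg hzx u)
      nlinarith
    · have h2 : 0 ≤ Scheme.ord (ia x g) z :=
        CDiv6.reg_ord_nonneg hig (ia_reg (hT z (Finset.mem_insert_of_mem hz)).1 g)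
      have h3 := hord z hz
      nlinarith

variable {Z : X → ℤ} (hZ : ∀ z : X, Order.coheight z ≠ 1 → Z z = 0)
  (hZfin : ∀ x : X, ∃ W : X.Opens, x ∈ W ∧ {z : X | z ∈ W ∧ Z z ≠ 0}.Finite)

include hX hZ hZfin in
/-- A generator of the divisorial ideal at a point where the divisor is principal. -/
theorem exists_local_gen {x y : X} (hy : y ⤳ x) {f : X.functionField} (hf0 : f ≠ 0)
    (hf : ∀ z : X, Order.coheight z = 1 → z ⤳ y → 0 ≤ Z z → Z z = Scheme.ord f z)
    (hpos : ∀ z : X, z ⤳ y → 0 ≤ Z z) :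
    ∃ π : X.presheaf.stalk x, π ≠ 0 ∧ π ∈ qIdeal hX Z x ∧
      (∀ z : X, z ⤳ y → Order.coheight z = 1 → Scheme.ord (ia x π) z = Z z) ∧
      ∀ b ∈ qIdeal hX Z x, ∃ s ∉ (CDiv6.primeOf hy).asIdeal, ∃ c, s * b = c * π := by
  classical
  letI := (X.presheaf.stalkSpecializes hy).hom.toAlgebra
  haveI := H23.StalkPrimes.isLocalization_primeOf hy
  obtain ⟨a, ha⟩ := CDiv6.reg_of_forall_ord_nonneg hX (x := y) hf0 fun z hzy h1 => by
    rw [← hf z h1 hzy (hpos z hzy)]; exact hpos z hzy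
  obtain ⟨c, ⟨s, hs⟩, rfl⟩ := IsLocalization.exists_mk'_eq (CDiv6.primeOf hy).asIdeal.primeCompl a
  have hs0 : s ≠ 0 := fun h => hs (h ▸ zero_mem _)
  have hcf : ia x c = f * ia x s := by
    rw [ia, ← CDiv6.algebraMap_specializes hy c, ← CDiv6.algebraMap_specializes hy s, ← ha, ← map_mul]
    exact congrArg _ (IsLocalization.mk'_spec _ c (⟨s, hs⟩ : (CDiv6.primeOf hy).asIdeal.primeCompl)).symm
  have hc0 : c ≠ 0 := fun h => mul_ne_zero hf0 (fun h' => hs0 (ia_inj.1 h')) (hcf.symm.trans (ia_inj.2 h))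
  have unit_ord : ∀ (t : X.presheaf.stalk x), t ∉ (CDiv6.primeOf hy).asIdeal → ∀ z : X, z ⤳ y →
      Order.coheight z = 1 → Scheme.ord (ia x t) z = 0 := fun t ht z hzy _ => by
    have ht0 : t ≠ 0 := fun h => ht (h ▸ zero_mem _)
    exact CDiv6.ord_toK_eq_zero (hzy.trans hy) ht0
      fun hm => ht ((H23.StalkPrimes.primeOf_le_iff hy (hzy.trans hy)).2 hzy hm)
  let T := ((finite_gen hZfin x).toFinset).filter fun z => ¬ z ⤳ y
  obtain ⟨u, hu, hu0, hord⟩ := exists_big hX x hy T (fun z hz => by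
      obtain ⟨hz, -⟩ := Finset.mem_filter.1 hz
      rw [Set.Finite.mem_toFinset] at hz
      exact ⟨hz.1, by_contra fun hne => hz.2 (hZ z hne)⟩)
    (fun z hz => (Finset.mem_filter.1 hz).2) (fun z => (Z z).toNat)
  have hic : ia x c ≠ 0 := fun h => hc0 (ia_inj.1 h)
  have hiu : ia x u ≠ 0 := fun h => hu0 (ia_inj.1 h)
  have hπy : ∀ z : X, z ⤳ y → Order.coheight z = 1 → Scheme.ord (ia x (u * c)) z = Z z := fun z hzy h1 => by
    rw [map_mul, Scheme.ord_mul hiu hic, hcf, Scheme.ord_mul hf0 (fun h => hs0 (ia_inj.1 h)),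
      unit_ord u hu z hzy h1, unit_ord s hs z hzy h1, hf z h1 hzy (hpos z hzy)]
    ring
  refine ⟨u * c, mul_ne_zero hu0 hc0, (mem_qIdeal (mul_ne_zero hu0 hc0)).2 fun z hzx h1 => ?_, hπy, fun b hb => ?_⟩
  · by_cases hzy : z ⤳ y
    · exact (hπy z hzy h1).ge
    rw [map_mul, Scheme.ord_mul hiu hic]
    have h2 : 0 ≤ Scheme.ord (ia x c) z := CDiv6.reg_ord_nonneg hic (ia_reg hzx c)
    have h3 : 0 ≤ Scheme.ord (ia x u) z := CDiv6.reg_ord_nonneg hiu (ia_reg hzx u)
    by_cases hz0 : Z z = 0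
    · omega
    have h4 := hord z (Finset.mem_filter.2 ⟨(Set.Finite.mem_toFinset _).2 ⟨hzx, hz0⟩, hzy⟩)
    omega
  · by_cases hb0 : b = 0
    · exact ⟨1, fun h => (CDiv6.primeOf hy).isPrime.ne_top ((Ideal.eq_top_iff_one _).2 h), 0, by rw [hb0]; ring⟩
    have hib : ia x b ≠ 0 := fun h => hb0 (ia_inj.1 h)
    have hiπ : ia x (u * c) ≠ 0 := fun h => mul_ne_zero hu0 hc0 (ia_inj.1 h)
    obtain ⟨a', ha'⟩ := CDiv6.reg_of_forall_ord_nonneg hX (x := y) (div_ne_zero hib hiπ) fun z hzy h1 => by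
      have h2 := Scheme.ord_mul (X := X) (x := z) (div_ne_zero hib hiπ) hiπ
      rw [div_mul_cancel₀ _ hiπ, hπy z hzy h1] at h2
      have h3 := (mem_qIdeal hb0).1 hb z (hzy.trans hy) h1
      omega
    obtain ⟨c', ⟨s', hs'⟩, rfl⟩ := IsLocalization.exists_mk'_eq (CDiv6.primeOf hy).asIdeal.primeCompl a'
    refine ⟨s', hs', c', IsFractionRing.injective (X.presheaf.stalk x) X.functionField ?_⟩
    have h5 : ia x c' = ia x b / ia x (u * c) * ia x s' := by
      rw [ia, ← CDiv6.algebraMap_specializes hy c', ← CDiv6.algebraMap_specializes hy s']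
      refine Eq.trans ?_ (congrArg (· * _) ha')
      rw [← map_mul]
      exact congrArg _ (IsLocalization.mk'_spec _ c' (⟨s', hs'⟩ : (CDiv6.primeOf hy).asIdeal.primeCompl)).symm
    show ia x (s' * b) = ia x (c' * (u * c))
    rw [map_mul, map_mul (ia x) c', h5]
    field_simp

include hX hZ hZfin in
/-- An effective divisor principal at all strict generisations of a parafactorial point is principal there. -/
theorem principal_of_parafactorial {x : X} (hd2 : (2 : WithBot ℕ∞) ≤ ringKrullDim (X.presheaf.stalk x))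
    (hpar : ParaF.IsParafactorialLocalRing (X.presheaf.stalk x)) (hpos : ∀ z : X, 0 ≤ Z z)
    (hgen : ∀ y : X, y ⤳ x → y ≠ x →
      ∃ f : X.functionField, f ≠ 0 ∧ ∀ z : X, Order.coheight z = 1 → z ⤳ y → Z z = Scheme.ord f z) :
    ∃ f : X.functionField, f ≠ 0 ∧ ∀ z : X, Order.coheight z = 1 → z ⤳ x → Z z = Scheme.ord f z := by
  classical
  haveI := (hX x).1
  haveI := (hX x).2
  have hd := ParaFX.two_le_depth_of_normal (X.presheaf.stalk x) hd2
  have hpic := ((ParaFX.isParafactorialLocalRing_iff (X.presheaf.stalk x)).1 hpar).2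
  have hclosed : ∀ {y : X} (hy : y ⤳ x), (CDiv6.primeOf hy).asIdeal = maximalIdeal (X.presheaf.stalk x) → y = x := by
    intro y hy h
    rw [← CDiv6.fromSpecStalk_primeOf hy,
      show CDiv6.primeOf hy = closedPoint (X.presheaf.stalk x) from PrimeSpectrum.ext h]
    exact Scheme.fromSpecStalk_closedPoint
  have hne1 : ∀ {z : X}, Order.coheight z = 1 → z ≠ x := by
    rintro z h1 rfl
    rw [ringKrullDim_stalk_eq_coheight, h1] at hd2
    exact absurd hd2 (by decide)
  have hinv : PicF.IsInvertible ((ParaFX.idSheaf (R := X.presheaf.stalk x) (qIdeal hX Z x)).restrict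
      (FEt.puncturedSpec (X.presheaf.stalk x)).ι) := by
    refine ParaFX.isInvertible_restrict_idSheaf _ fun p hp => ?_
    obtain ⟨y, hy, hyp⟩ := H23.StalkPrimes.exists_point p.asIdeal
    have hyx : y ≠ x := by
      rintro rfl
      refine hp (PrimeSpectrum.ext ?_)
      rw [← hyp]
      ext t
      rw [CDiv6.mem_primeOf, TopCat.Presheaf.stalkSpecializes_refl]
      exact (IsLocalRing.mem_maximalIdeal t).symm
    obtain ⟨f, hf0, hf⟩ := hgen y hy hyx
    obtain ⟨π, hπ0, hπq, -, hgen'⟩ := exists_local_gen hX hZ hZfin hy hf0 (fun z h1 hzy _ => hf z h1 hzy)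
      (fun z _ => hpos z)
    obtain ⟨G, hG⟩ := (IsNoetherian.noetherian (qIdeal hX Z x) : (qIdeal hX Z x).FG)
    choose! s hs c hc using hgen'
    refine ⟨∏ b ∈ G, s b, ⟨π, hπq⟩, fun h => ?_, hπ0, fun b hb => ⟨1, ?_⟩⟩
    · obtain ⟨b, hb, hbp⟩ := p.isPrime.prod_mem_iff.1 h
      exact hs b (hG ▸ Submodule.subset_span hb) (hyp ▸ hbp)
    · have hle : qIdeal hX Z x ≤
          Submodule.comap (LinearMap.mulLeft (X.presheaf.stalk x) (∏ b ∈ G, s b)) (Ideal.span {π}) := by
        conv_lhs => rw [← hG]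
        rw [Submodule.span_le]
        intro b hbG
        rw [SetLike.mem_coe, Submodule.mem_comap, LinearMap.mulLeft_apply,
          ← Finset.prod_erase_mul G s hbG, mul_assoc, hc b (hG ▸ Submodule.subset_span hbG), ← mul_assoc]
        exact Ideal.mem_span_singleton'.2 ⟨_, rfl⟩
      obtain ⟨d, hd'⟩ := Ideal.mem_span_singleton'.1 (hle hb)
      exact ⟨d, by rw [pow_one]; exact hd'.symm⟩
  obtain ⟨φ⟩ := hpic _ hinv
  obtain ⟨m, hm, hm0⟩ : ∃ m ∈ maximalIdeal (X.presheaf.stalk x), m ≠ 0 :=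
    Submodule.exists_mem_ne_zero_of_ne_bot fun h => by
      rw [← IsLocalRing.maximalIdeal_height_eq_ringKrullDim, h, Ideal.height_bot] at hd2
      exact absurd hd2 (by decide)
  obtain ⟨a, ha⟩ := exists_eq_span_of_saturated (R := X.presheaf.stalk x) (qIdeal hX Z x) hd ⟨m, hm, hm0⟩
    (fun a ha => by
      by_cases ha0 : a = 0
      · rw [ha0]; exact zero_mem _
      refine (mem_qIdeal ha0).2 fun z hzx h1 => ?_
      obtain ⟨g, hg, hgz⟩ := SetLike.not_le_iff_exists.1 fun h => hne1 h1 (hclosed hzx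
        (le_antisymm (IsLocalRing.le_maximalIdeal (Ideal.IsPrime.ne_top inferInstance)) h))
      have hg0 : g ≠ 0 := fun h => hgz (h ▸ zero_mem _)
      obtain ⟨n, hn⟩ := ha g hg hg0
      have hgn : g ^ n ≠ 0 := pow_ne_zero _ hg0
      have h2 := (mem_qIdeal (mul_ne_zero hgn ha0)).1 hn z hzx h1
      rw [map_mul, map_pow, Scheme.ord_mul (pow_ne_zero _ fun h => hg0 (ia_inj.1 h)) fun h => ha0 (ia_inj.1 h),
        Ref1X.OD.ord_pow fun h => hg0 (ia_inj.1 h),
        show Scheme.ord (ia x g) z = 0 from CDiv6.ord_toK_eq_zero hzx hg0 hgz] at h2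
      simpa using h2) φ
  have hgenz : ∀ z : X, z ⤳ x → Order.coheight z = 1 →
      ∃ π : X.presheaf.stalk x, π ≠ 0 ∧ π ∈ qIdeal hX Z x ∧ Scheme.ord (ia x π) z = Z z := fun z hzx h1 => by
    obtain ⟨f, hf0, hf⟩ := hgen z hzx (hne1 h1)
    obtain ⟨π, hπ0, hπq, hπ, -⟩ := exists_local_gen hX hZ hZfin hzx hf0 (fun z h1 hzy _ => hf z h1 hzy)
      (fun z _ => hpos z)
    exact ⟨π, hπ0, hπq, hπ z specializes_rfl h1⟩
  obtain ⟨P, hP, hP1⟩ : ∃ π : X.presheaf.stalk x, π ≠ 0 ∧ π ∈ qIdeal hX Z x := by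
    obtain ⟨b, -, hb0, hb⟩ := exists_big hX x (Ref1X.eta_le x)
      ((finite_gen hZfin x).toFinset) (fun z hz => by
        rw [Set.Finite.mem_toFinset] at hz
        exact ⟨hz.1, by_contra fun hne => hz.2 (hZ z hne)⟩)
      (fun z hz hzη => by
        rw [Set.Finite.mem_toFinset] at hz
        have := (hzη.antisymm (Ref1X.eta_le z)).eq
        subst this
        exact hz.2 (hZ _ (by rw [show Order.coheight (genericPoint X) = 0 from
          Order.coheight_eq_zero.2 fun y hy => Ref1X.eta_le y]; exact zero_ne_one)))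
      (fun z => (Z z).toNat)
    refine ⟨b, hb0, (mem_qIdeal hb0).2 fun z hzx h1 => ?_⟩
    have h2 : 0 ≤ Scheme.ord (ia x b) z := CDiv6.reg_ord_nonneg (fun h => hb0 (ia_inj.1 h)) (ia_reg hzx b)
    by_cases hz0 : Z z = 0
    · omega
    · have := hb z ((Set.Finite.mem_toFinset _).2 ⟨hzx, hz0⟩)
      omega
  have haq : a ∈ qIdeal hX Z x := ha ▸ Ideal.mem_span_singleton_self a
  have ha0 : a ≠ 0 := by
    rintro rfl
    rw [Ideal.span_singleton_zero] at ha
    rw [ha, Ideal.mem_bot] at hP1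
    exact hP hP1
  refine ⟨ia x a, fun h => ha0 (ia_inj.1 h), fun z h1 hzx => le_antisymm ((mem_qIdeal ha0).1 haq z hzx h1) ?_⟩
  obtain ⟨π, hπ0, hπq, hπ⟩ := hgenz z hzx h1
  obtain ⟨d, rfl⟩ := Ideal.mem_span_singleton'.1 (ha ▸ hπq : π ∈ Ideal.span {a})
  have hd0 : d ≠ 0 := left_ne_zero_of_mul hπ0
  rw [map_mul, Scheme.ord_mul (fun h => hd0 (ia_inj.1 h)) fun h => ha0 (ia_inj.1 h)] at hπ
  have := CDiv6.reg_ord_nonneg (fun h => hd0 (ia_inj.1 h)) (ia_reg hzx d)
  omega

include hX in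
/-- A divisor principal along `S` is principal everywhere when the points off the generisations of `S`
are parafactorial. -/
theorem principal_of_principal_on {Z : X → ℤ} (hZ : ∀ z : X, Order.coheight z ≠ 1 → Z z = 0)
    (hZfin : ∀ x : X, ∃ W : X.Opens, x ∈ W ∧ {z : X | z ∈ W ∧ Z z ≠ 0}.Finite) (S : Set X)
    (hpar : ∀ x : X, closure {x} ∩ S = ∅ → (2 : WithBot ℕ∞) ≤ ringKrullDim (X.presheaf.stalk x) →
      ParaF.IsParafactorialLocalRing (X.presheaf.stalk x))
    (hS : ∀ s ∈ S, ∃ f : X.functionField, f ≠ 0 ∧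
      ∀ z : X, Order.coheight z = 1 → z ⤳ s → Z z = Scheme.ord f z) (x : X) :
    ∃ f : X.functionField, f ≠ 0 ∧ ∀ z : X, Order.coheight z = 1 → z ⤳ x → Z z = Scheme.ord f z := by
  classical
  induction x using (InvImage.wf (fun y : X => ringKrullDim (X.presheaf.stalk y)) wellFounded_lt).induction with
  | _ x ih =>
    by_cases hxS : closure {x} ∩ S = ∅
    swap
    · obtain ⟨s, hs, hsS⟩ := Set.nonempty_iff_ne_empty.2 hxS
      obtain ⟨f, hf0, hf⟩ := hS s hsS
      exact ⟨f, hf0, fun z h1 hz => hf z h1 (hz.trans (specializes_iff_mem_closure.2 hs))⟩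
    by_cases hd2 : (2 : WithBot ℕ∞) ≤ ringKrullDim (X.presheaf.stalk x)
    · -- make the divisor effective at `x`
      obtain ⟨b, -, hb0, hb⟩ := exists_big hX x (Ref1X.eta_le x) ((finite_gen hZfin x).toFinset) (fun z hz => by
          rw [Set.Finite.mem_toFinset] at hz
          exact ⟨hz.1, by_contra fun hne => hz.2 (hZ z hne)⟩)
        (fun z hz hzη => by
          rw [Set.Finite.mem_toFinset] at hz
          have := (hzη.antisymm (Ref1X.eta_le z)).eq
          subst this
          exact hz.2 (hZ _ (by rw [show Order.coheight (genericPoint X) = 0 from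
            Order.coheight_eq_zero.2 fun y hy => Ref1X.eta_le y]; exact zero_ne_one)))
        (fun z => (Z z).natAbs)
      have hib : ia x b ≠ 0 := fun h => hb0 (ia_inj.1 h)
      let Z' : X → ℤ := fun z => if Order.coheight z = 1 ∧ z ⤳ x then Z z + Scheme.ord (ia x b) z else 0
      have hZ' : ∀ z : X, Order.coheight z ≠ 1 → Z' z = 0 := fun z hz => if_neg fun h => hz h.1
      obtain ⟨V, hV, hxV, -⟩ := exists_isAffineOpen_mem_and_subset (x := x) (U := ⊤) trivial
      have hsupp : {z : X | Z' z ≠ 0}.Finite :=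
        ((finite_gen hZfin x).union (Ref1X.finite_ord_ne_zero hV hib)).subset fun z hz => by
          by_cases hc : Order.coheight z = 1 ∧ z ⤳ x
          · simp only [Z', Set.mem_setOf_eq, if_pos hc] at hz
            by_cases h0 : Z z = 0
            · exact Or.inr ⟨hc.2.mem_open V.isOpen hxV, fun h => hz (by rw [h0, h, add_zero])⟩
            · exact Or.inl ⟨hc.2, h0⟩
          · exact absurd (if_neg hc) hz
      have hnn : ∀ z : X, 0 ≤ Z' z := fun z => by
        by_cases hc : Order.coheight z = 1 ∧ z ⤳ x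
        · simp only [Z', if_pos hc]
          have h2 : 0 ≤ Scheme.ord (ia x b) z := CDiv6.reg_ord_nonneg hib (ia_reg hc.2 b)
          by_cases h0 : Z z = 0
          · omega
          · have := hb z ((Set.Finite.mem_toFinset _).2 ⟨hc.2, h0⟩)
            omega
        · exact le_of_eq (if_neg hc).symm
      obtain ⟨f, hf0, hf⟩ := principal_of_parafactorial hX hZ' (fun _ => ⟨⊤, trivial, hsupp.subset fun z hz => hz.2⟩)
        hd2 (hpar x hxS hd2) hnn fun y hy hne => by
          obtain ⟨g, hg0, hg⟩ := ih y (ringKrullDim_stalk_lt hy hne)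
          refine ⟨g * ia x b, mul_ne_zero hg0 hib, fun z h1 hz => ?_⟩
          rw [Scheme.ord_mul hg0 hib, ← hg z h1 hz]
          exact if_pos ⟨h1, hz.trans hy⟩
      refine ⟨f / ia x b, div_ne_zero hf0 hib, fun z h1 hz => ?_⟩
      have h3 := Scheme.ord_mul (X := X) (x := z) (div_ne_zero hf0 hib) hib
      rw [div_mul_cancel₀ _ hib, ← hf z h1 hz] at h3
      simp only [Z', if_pos (And.intro h1 hz)] at h3
      omega
    · by_cases hx1 : Order.coheight x = 1
      · obtain ⟨W, φ, hxW, hφ, hW⟩ := Ref1X.OD.exists_local_eq (D := fun z => -Z z) (fun V hV => by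
            choose W hxW hW using hZfin
            obtain ⟨t, ht⟩ := hV.isCompact.elim_finite_subcover (fun y => (W y : Set X)) (fun y => (W y).isOpen)
              (fun y _ => Set.mem_iUnion.2 ⟨y, hxW y⟩)
            refine (t.finite_toSet.biUnion fun y _ => hW y).subset fun z hz => ?_
            obtain ⟨y, hy, hzy⟩ := Set.mem_iUnion₂.1 (ht hz.1)
            exact Set.mem_biUnion hy ⟨hzy, fun h => hz.2 (show -Z z = 0 by rw [h, neg_zero])⟩)
          (fun z hz => show -Z z = 0 by rw [hZ z hz, neg_zero]) hx1 hX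
        exact ⟨φ, hφ, fun z h1 hz => by rw [hW z (hz.mem_open W.isOpen hxW) h1, neg_neg]⟩
      · refine ⟨1, one_ne_zero, fun z h1 hz => absurd ?_ hd2⟩
        have hne : z ≠ x := fun h => hx1 (h ▸ h1)
        have h3 := ringKrullDim_stalk_lt hz hne
        rw [ringKrullDim_stalk_eq_coheight, h1] at h3
        generalize ringKrullDim (X.presheaf.stalk x) = d at h3 ⊢
        induction d with
        | bot => exact absurd h3 not_lt_bot
        | coe d => exact WithBot.coe_le_coe.2 (Order.add_one_le_of_lt (WithBot.coe_lt_coe.1 h3))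

end Groth.Agent.Div21Lib
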