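import Groth.Agent.Div21Lib.ClPic
import Groth.Agent.Div21Lib.Factorial
import Groth.Agent.ParaFX.Closed
import Groth.Agent.WDivX.OrdOpen

/-! Principal hypersurfaces, factoriality and trivial Picard groups. -/

set_option autoImplicit false
set_option backward.isDefEq.respectTransparency false
set_option backward.isDefEq.respectTransparency.types false
set_option linter.style.haveILetI false
universe u

open CategoryTheory AlgebraicGeometry TopologicalSpace IsLocalRing

namespace Groth.Agent.Div21Lib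

section Frames

variable {X : Scheme.{u}}

theorem exists_frame_of_iso {L : X.Modules} {U : X.Opens}
    (φ : L.restrict U.ι ≅ Coh.structureModule (↑U : Scheme.{u})) : ∃ e : Γ(L, U), InvX.IsFrame e := by
  let e' : Γ(L.restrict U.ι, ⊤) := φ.inv.app ⊤ (1 : Γ(U.toScheme, ⊤))
  refine ⟨AModX.res L (le_of_eq U.ι_image_top.symm) (show Γ(L, U.ι ''ᵁ ⊤) from e'), fun V hV => ?_⟩
  obtain ⟨V', rfl⟩ : ∃ V', U.ι ''ᵁ V' = V := ⟨U.ι ⁻¹ᵁ V, by
    rw [Scheme.Hom.image_preimage_eq_opensRange_inf, Scheme.Opens.opensRange_ι]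
    exact inf_eq_right.mpr hV⟩
  have hb : Function.Bijective (φ.inv.app V') :=
    (ConcreteCategory.isIso_iff_bijective _).1 (Scheme.Modules.Hom.isIso_iff_isIso_app.1 inferInstance V')
  have key : ∀ r : Γ(X, U.ι ''ᵁ V'), (show Γ(L.restrict U.ι, V') from
      r • AModX.res L (hV : U.ι ''ᵁ V' ≤ U) (AModX.res L (le_of_eq U.ι_image_top.symm)
        (show Γ(L, U.ι ''ᵁ ⊤) from e'))) = φ.inv.app V' ((U.ι.appIso V').hom r) := by
    intro r
    have h1 : φ.inv.app V' (1 : Γ(U.toScheme, V')) = AModX.res (L.restrict U.ι) le_top e' := by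
      rw [← AModX.app_res]
      exact congrArg (φ.inv.app V') (map_one (AModX.resR (le_top : V' ≤ ⊤))).symm
    conv_rhs => rw [show (U.ι.appIso V').hom r = (U.ι.appIso V').hom r • (1 : Γ(U.toScheme, V')) from
      (mul_one _).symm]
    erw [Scheme.Modules.Hom.app_smul, h1]
    rw [AModX.res_res]
    show r • AModX.res L (U.ι.image_mono (le_top : V' ≤ ⊤)) (show Γ(L, U.ι ''ᵁ ⊤) from e') =
      (U.ι.appIso V').inv.hom ((U.ι.appIso V').hom r) •
      AModX.res L (U.ι.image_mono (le_top : V' ≤ ⊤)) (show Γ(L, U.ι ''ᵁ ⊤) from e')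
    rw [Iso.hom_inv_id_apply]
  have he2 : (fun r : Γ(X, U.ι ''ᵁ V') => (show Γ(L.restrict U.ι, V') from
      r • AModX.res L (hV : U.ι ''ᵁ V' ≤ U) (AModX.res L (le_of_eq U.ι_image_top.symm)
        (show Γ(L, U.ι ''ᵁ ⊤) from e')))) = (φ.inv.app V') ∘ (U.ι.appIso V').hom := funext key
  have hiso : Function.Bijective (U.ι.appIso V').hom :=
    (ConcreteCategory.isIso_iff_bijective _).1 inferInstance
  exact (congrArg Function.Bijective he2).mpr (hb.comp hiso)

theorem isInvertible_restrict_of_frames {M : X.Modules} (U : X.Opens)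
    (h : ∀ y ∈ U, ∃ (W : X.Opens) (_ : y ∈ W) (e : Γ(M, W)), InvX.IsFrame e) :
    PicF.IsInvertible (M.restrict U.ι) := by
  intro y
  obtain ⟨W, hyW, e, he⟩ := h y.1 y.2
  obtain ⟨φ⟩ := InvX.nonempty_iso_of_isFrame he
  set W' : (U : Scheme.{u}).Opens := U.ι ⁻¹ᵁ W with hW'
  have hle : U.ι ''ᵁ W' ≤ W := by
    rintro _ ⟨z, hz, rfl⟩
    exact hz
  let b : (W' : Scheme.{u}) ⟶ (W : Scheme.{u}) := (U.ι.isoImage W').hom ≫ X.homOfLE hle
  have hb : b ≫ W.ι = W'.ι ≫ U.ι := by simp [b]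
  exact ⟨W', hyW, ⟨ParaFX.restrictTwice _ W'.ι U.ι ≪≫ ((Scheme.Modules.restrictFunctorCongr hb).app _).symm ≪≫
    (ParaFX.restrictTwice _ b W.ι).symm ≪≫ (Scheme.Modules.restrictFunctor b).mapIso φ ≪≫
    Scheme.Modules.restrictUnitIso b⟩⟩

theorem iso_unit_of_isEmpty [IsEmpty X] (L : X.Modules) : Nonempty (L ≅ Coh.structureModule X) := by
  have hs : ∀ (M : X.Modules) (V : X.Opens), Subsingleton Γ(M, V) := fun M V => ⟨fun a b => by
    refine TopCat.Presheaf.section_ext (C := AddCommGrpCat) ⟨M.presheaf, M.isSheaf⟩ V a b fun y _ => ?_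
    exact (IsEmpty.false (α := X) y).elim⟩
  haveI : IsIso (0 : L ⟶ Coh.structureModule X) := Scheme.Modules.Hom.isIso_iff_isIso_app.2 fun V =>
    (ConcreteCategory.isIso_iff_bijective _).2
      ⟨fun a b _ => (hs L V).elim a b, fun b => ⟨0, (hs _ V).elim _ b⟩⟩
  exact ⟨asIso (0 : L ⟶ Coh.structureModule X)⟩

end Frames

variable {X : Scheme.{u}} [IsIntegral X] [IsLocallyNoetherian X] (hX : Pi1.IsNormalScheme X)

include hX in
/-- A divisor which is locally principal on an open set with trivial Picard group and is supported there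
is principal. -/
theorem exists_ord_of_picTrivial {D : X → ℤ} (U : X.Opens) (hη : genericPoint X ∈ U)
    (hloc : ∀ y ∈ U, ∃ (W : X.Opens) (φ : X.functionField), y ∈ W ∧ φ ≠ 0 ∧
      ∀ z ∈ W, Order.coheight z = 1 → Scheme.ord φ z = -D z)
    (hpic : ∀ L : (U : Scheme.{u}).Modules, PicF.IsInvertible L → Nonempty (L ≅ Coh.structureModule (U : Scheme.{u}))) :
    ∃ φ : X.functionField, φ ≠ 0 ∧ ∀ y ∈ U, Order.coheight y = 1 → Scheme.ord φ y = -D y := by
  obtain ⟨ψ⟩ := hpic _ (isInvertible_restrict_of_frames (M := Ref1X.OD.M hX D) U fun y hy => by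
    obtain ⟨W, φ, hyW, hφ, hW⟩ := hloc y hy
    exact ⟨W, hyW, _, Ref1X.OD.isFrame_mk (hX := hX) hφ hW⟩)
  obtain ⟨e, he⟩ := exists_frame_of_iso ψ
  set φ := Ref1X.OD.val e hη with hφdef
  have key : ∀ y ∈ U, ∃ (W : X.Opens) (φ' : X.functionField) (hyW : y ∈ W) (hη' : genericPoint X ∈ W ⊓ U)
      (c : Γ(X, W ⊓ U)), IsUnit c ∧ φ' ≠ 0 ∧ (∀ z ∈ W, Order.coheight z = 1 → Scheme.ord φ' z = -D z) ∧
        φ = (X.presheaf.germ (W ⊓ U) _ hη' c : X.functionField) * φ' := by
    intro y hy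
    obtain ⟨W, φ', hyW, hφ', hW⟩ := hloc y hy
    have hη' : genericPoint X ∈ W ⊓ U := ⟨Ref1X.eta_mem hyW, hη⟩
    have h1 := (Ref1X.OD.isFrame_mk (hX := hX) hφ' hW).res (inf_le_left : W ⊓ U ≤ W)
    have h2 := he.res (inf_le_right : W ⊓ U ≤ U)
    obtain ⟨c, hc⟩ := h1.exists_coord le_rfl (AModX.res (Ref1X.OD.M hX D) (inf_le_right : W ⊓ U ≤ U) e)
    obtain ⟨c', hc'⟩ := h2.exists_coord le_rfl
      (AModX.res (Ref1X.OD.M hX D) (inf_le_left : W ⊓ U ≤ W) (Ref1X.OD.mk W φ' fun z hz h => Or.inr (hW z hz h).ge))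
    rw [AModX.res_self] at hc hc'
    refine ⟨W, φ', hyW, hη', c, ?_, hφ', hW, ?_⟩
    · refine IsUnit.of_mul_eq_one c' ((h2 _ le_rfl).1 ?_)
      show (c * c') • AModX.res _ _ _ = (1 : Γ(X, W ⊓ U)) • AModX.res _ _ _
      rw [AModX.res_self, mul_smul, ← hc', one_smul, ← hc]
    · have h3 := congrArg (fun z => Ref1X.OD.val z hη') hc
      rw [Ref1X.OD.val_res, Ref1X.OD.val_smul, Ref1X.OD.val_res, Ref1X.OD.val_mk] at h3
      exact h3
  have hφ0 : φ ≠ 0 := by
    obtain ⟨W, φ', _, hη', c, hc, hφ', -, e'⟩ := key _ hη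
    rw [e']
    exact mul_ne_zero ((hc.map (X.presheaf.germ (W ⊓ U) _ hη').hom).ne_zero) hφ'
  refine ⟨φ, hφ0, fun y hy hy1 => ?_⟩
  obtain ⟨W, φ', hyW, hη', c, hc, hφ', hW, e'⟩ := key y hy
  rw [e', Scheme.ord_mul ((hc.map (X.presheaf.germ (W ⊓ U) _ hη').hom).ne_zero) hφ', hW y hyW hy1]
  have h4 : Scheme.ord (X.presheaf.germ (W ⊓ U) _ hη' c : X.functionField) y = 0 := by
    rw [show (X.presheaf.germ (W ⊓ U) _ hη' c : X.functionField) =
      algebraMap (X.presheaf.stalk y) X.functionField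
        ((hc.map (X.presheaf.germ (W ⊓ U) y ⟨hyW, hy⟩).hom).unit : X.presheaf.stalk y) from
      (Ref1X.spR_germ (Ref1X.eta_le y) (⟨hyW, hy⟩ : y ∈ W ⊓ U) c).symm]
    exact Ref1X.ord_units hy1 _
  exact (congrArg (· + -D y) h4).trans (zero_add _)

/-- Every prime divisor is principal. -/
def HasPrincipalPrimes (X : Scheme.{u}) [IsIntegral X] [IsLocallyNoetherian X] : Prop :=
  Pi1.IsNormalScheme X ∧ ∀ x₀ : X, Order.coheight x₀ = 1 → ∃ f : X.functionField, f ≠ 0 ∧
    Scheme.ord f x₀ = 1 ∧ ∀ x : X, x ≠ x₀ → Order.coheight x = 1 → Scheme.ord f x = 0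

theorem ufd_of_principal (h : HasPrincipalPrimes X) (x : X) : UniqueFactorizationMonoid (X.presheaf.stalk x) :=
  ufd_of_local_functions h.1 x fun y₀ _ hy1 => by
    obtain ⟨f, hf, h1, h0⟩ := h.2 y₀ hy1
    exact ⟨Units.mk0 f hf, fun z _ hz1 => ⟨fun e => e ▸ h1, fun hne => h0 z hne hz1⟩⟩

theorem picTrivial_of_principal [CompactSpace X] (h : HasPrincipalPrimes X) (L : X.Modules)
    (hL : PicF.IsInvertible L) : Nonempty (L ≅ Coh.structureModule X) := by
  classical
  obtain ⟨hX, hp⟩ := h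
  have hR := isRef1_of_invertible hL
  obtain ⟨s, hs⟩ := Ref1X.exists_ne_zero hR.2.2
  let S : Set X := {x | Order.coheight x = 1 ∧ Ref1X.ordF L s x ≠ 0}
  have hS : S.Finite := by
    choose U hU hxU using fun x : X => (exists_isAffineOpen_mem_and_subset (x := x) (U := ⊤) trivial)
    obtain ⟨t, ht⟩ := isCompact_univ.elim_finite_subcover (fun x => (U x : Set X)) (fun x => (U x).isOpen)
      (fun x _ => Set.mem_iUnion.2 ⟨x, (hxU x).1⟩)
    refine (t.finite_toSet.biUnion fun x _ => Ref1X.finite_ordF_ne_zero hX hR hs (hU x)).subset fun z hz => ?_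
    obtain ⟨x, hx, hzx⟩ := Set.mem_iUnion₂.1 (ht (Set.mem_univ z))
    exact Set.mem_biUnion hx ⟨hzx, hz.1, hz.2⟩
  choose g hg0 hg1 hg2 using fun z : hS.toFinset => hp z.1 (hS.mem_toFinset.1 z.2).1
  refine trivial_of_ord hX hL hs (f := ∏ z : hS.toFinset, g z ^ Ref1X.ordF L s z.1) ?_ fun x hx => ?_
  · exact Finset.prod_ne_zero_iff.2 fun z _ => zpow_ne_zero _ (hg0 z)
  rw [Ref1X.OD.ord_prod Finset.univ (fun z : hS.toFinset => g z ^ Ref1X.ordF L s z.1)
    (fun z _ => zpow_ne_zero _ (hg0 z)), Finset.sum_congr rfl fun z _ => Ref1X.OD.ord_zpow (hg0 z) x _]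
  by_cases hxS : x ∈ S
  · rw [Finset.sum_eq_single (⟨x, hS.mem_toFinset.2 hxS⟩ : hS.toFinset) (fun z _ hne => by
      rw [hg2 z x (fun e => hne (Subtype.ext e.symm)) hx, mul_zero]) (fun hn => absurd (Finset.mem_univ _) hn),
      hg1, mul_one]
  · rw [Finset.sum_eq_zero fun z _ => by
      rw [hg2 z x (fun (e : x = z.1) => hxS (by rw [e]; exact hS.mem_toFinset.1 z.2)) hx, mul_zero]]
    by_contra hne
    exact hxS ⟨hx, hne⟩

theorem picTrivial_open_of_principal [CompactSpace X] (h : HasPrincipalPrimes X) (U : X.Opens)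
    (L : (U : Scheme.{u}).Modules) (hL : PicF.IsInvertible L) :
    Nonempty (L ≅ Coh.structureModule (U : Scheme.{u})) := by
  rcases isEmpty_or_nonempty (U : Scheme.{u}) with hU | hU
  · exact iso_unit_of_isEmpty L
  haveI : IsNoetherian X := {}
  haveI : CompactSpace (U : Scheme.{u}) := isCompact_iff_compactSpace.1 (NoetherianSpace.isCompact _)
  refine picTrivial_of_principal ⟨fun u => ?_, fun u hu => ?_⟩ L hL
  · obtain ⟨h1, h2⟩ := h.1 u.1
    let e : X.presheaf.stalk u.1 ≃+* (U : Scheme.{u}).presheaf.stalk u :=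
      (asIso (U.ι.stalkMap u)).commRingCatIsoToRingEquiv
    haveI : IsDomain ((U : Scheme.{u}).presheaf.stalk u) := MulEquiv.isDomain _ e.symm.toMulEquiv
    exact ⟨inferInstance, IsIntegrallyClosed.of_equiv e⟩
  · obtain ⟨f, hf, h1, h0⟩ := h.2 u.1 ((coheight_eq_of_isOpenImmersion U.ι).trans hu)
    refine ⟨(WDivX.ffMap U.ι).hom f, fun h0 => hf ((WDivX.ffMap_bijective U.ι).1 (h0.trans (map_zero _).symm)),
      (WDivX.ord_ffMap U.ι f u).trans h1, fun z hz hz1 => (WDivX.ord_ffMap U.ι f z).trans ?_⟩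
    exact h0 _ (fun e => hz (Subtype.ext e)) ((coheight_eq_of_isOpenImmersion U.ι).trans hz1)

include hX in
theorem principal_of_picTrivial_open
    (hpic : ∀ (U : X.Opens) (L : (U : Scheme.{u}).Modules), PicF.IsInvertible L →
      Nonempty (L ≅ Coh.structureModule (U : Scheme.{u}))) : HasPrincipalPrimes X := by
  classical
  refine ⟨hX, fun x₀ hx₀ => ?_⟩
  let D : X → ℤ := fun z => if z = x₀ then -1 else 0
  let U : X.Opens := ⟨{y | ∃ (W : X.Opens) (φ : X.functionField), y ∈ W ∧ φ ≠ 0 ∧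
      ∀ z ∈ W, Order.coheight z = 1 → Scheme.ord φ z = -D z}, isOpen_iff_forall_mem_open.2 fun y hy => by
    obtain ⟨W, φ, hyW, h⟩ := hy
    exact ⟨W, fun z hz => ⟨W, φ, hz, h⟩, W.isOpen, hyW⟩⟩
  have hD : ∀ V : X.Opens, IsAffineOpen V → {y : X | y ∈ V ∧ D y ≠ 0}.Finite := fun V _ =>
    (Set.finite_singleton x₀).subset fun y hy => by_contra fun hne => hy.2 (if_neg hne)
  have hD1 : ∀ y, Order.coheight y ≠ 1 → D y = 0 := fun y hy => if_neg fun (e : y = x₀) => hy (by rw [e]; exact hx₀)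
  have h1U : ∀ y : X, Order.coheight y = 1 → y ∈ U := fun y hy => Ref1X.OD.exists_local_eq hD hD1 hy hX
  obtain ⟨φ, hφ, hord⟩ := exists_ord_of_picTrivial hX U (Ref1X.eta_mem (h1U x₀ hx₀)) (fun y hy => hy) (hpic U)
  refine ⟨φ, hφ, ?_, fun x hne hx => ?_⟩
  · rw [hord x₀ (h1U x₀ hx₀) hx₀]; simp [D]
  · rw [hord x (h1U x hx) hx]; simp [D, hne]

theorem normal_of_ufd (hU : ∀ x : X, UniqueFactorizationMonoid (X.presheaf.stalk x)) : Pi1.IsNormalScheme X :=
  fun x => by
    haveI : IsDomain (X.presheaf.stalk x) := (IsFractionRing.injective (X.presheaf.stalk x) X.functionField).isDomain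
    haveI := hU x
    exact ⟨inferInstance, inferInstance⟩

theorem principal_of_ufd_pic (hU : ∀ x : X, UniqueFactorizationMonoid (X.presheaf.stalk x))
    (hpic : ∀ L : X.Modules, PicF.IsInvertible L → Nonempty (L ≅ Coh.structureModule X)) :
    HasPrincipalPrimes X := by
  classical
  have hX := normal_of_ufd hU
  refine ⟨hX, fun x₀ hx₀ => ?_⟩
  let D : X → ℤ := fun z => if z = x₀ then -1 else 0
  have hD : ∀ V : X.Opens, IsAffineOpen V → {y : X | y ∈ V ∧ D y ≠ 0}.Finite := fun V _ =>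
    (Set.finite_singleton x₀).subset fun y hy => by_contra fun hne => hy.2 (if_neg hne)
  have hD1 : ∀ y, Order.coheight y ≠ 1 → D y = 0 := fun y hy => if_neg fun (e : y = x₀) => hy (by rw [e]; exact hx₀)
  let i := X.topIso.inv
  have hi : i ≫ (⊤ : X.Opens).ι = 𝟙 X := X.topIso.inv_hom_id
  obtain ⟨φ, hφ, hord⟩ := exists_ord_of_picTrivial hX ⊤ trivial
    (fun y _ => exists_local_eq_of_ufd hX hU hD hD1 y) fun L hL => by
      obtain ⟨e⟩ := hpic _ (ParaFX.isInvertible_restrict X.topIso.inv hL)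
      exact ⟨(Scheme.Modules.restrictFunctorId.app L).symm ≪≫
        ((Scheme.Modules.restrictFunctorCongr X.topIso.hom_inv_id).app L).symm ≪≫
        (ParaFX.restrictTwice L X.topIso.hom X.topIso.inv).symm ≪≫
        (Scheme.Modules.restrictFunctor X.topIso.hom).mapIso e ≪≫ Scheme.Modules.restrictUnitIso _⟩
  refine ⟨φ, hφ, ?_, fun x hne hx => ?_⟩
  · rw [hord x₀ trivial hx₀]; simp [D]
  · rw [hord x trivial hx]; simp [D, hne]

theorem principal_of_hypersurfaces
    (h : ∀ ζ : X, Order.coheight ζ = 1 → ∃ g : Γ(X, ⊤),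
      (∀ (x : X) (h : ζ ⤳ x), (maximalIdeal (X.presheaf.stalk ζ)).comap (X.presheaf.stalkSpecializes h).hom =
        Ideal.span {X.presheaf.germ ⊤ x trivial g}) ∧
      ∀ x : X, ¬ ζ ⤳ x → IsUnit (X.presheaf.germ ⊤ x trivial g)) : HasPrincipalPrimes X := by
  haveI : ∀ x : X, IsDomain (X.presheaf.stalk x) := fun x =>
    (IsFractionRing.injective (X.presheaf.stalk x) X.functionField).isDomain
  have hne : ∀ ζ : X, Order.coheight ζ = 1 → maximalIdeal (X.presheaf.stalk ζ) ≠ ⊥ := fun ζ hζ h0 => by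
    have h1 := ringKrullDim_stalk_eq_coheight (X := X) ζ
    rw [← IsLocalRing.maximalIdeal_height_eq_ringKrullDim, h0, Ideal.height_bot, hζ] at h1
    exact zero_ne_one (WithBot.coe_injective h1)
  have hU := (factorial_iff (fun x _ => inferInstance)).1 fun ζ hζ x hx => by
    rw [ringKrullDim_stalk_eq_coheight] at hζ
    have hζ' : Order.coheight ζ = 1 := by exact_mod_cast hζ
    obtain ⟨g, hg, -⟩ := h ζ hζ'
    refine ⟨_, mem_nonZeroDivisors_iff_ne_zero.2 fun h0 => ?_, hg x hx⟩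
    have h2 := hg ζ specializes_rfl
    rw [TopCat.Presheaf.stalkSpecializes_refl] at h2
    change maximalIdeal (X.presheaf.stalk ζ) = _ at h2
    rw [← X.presheaf.germ_stalkSpecializes_apply (U := ⊤) trivial hx g, h0, map_zero,
      Ideal.span_singleton_zero] at h2
    exact hne ζ hζ' h2
  have hX := normal_of_ufd fun x => (hU x).2
  refine ⟨hX, fun x₀ hx₀ => ?_⟩
  obtain ⟨g, hg, hgu⟩ := h x₀ hx₀
  have hg₀ := hg x₀ specializes_rfl
  rw [TopCat.Presheaf.stalkSpecializes_refl] at hg₀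
  change maximalIdeal (X.presheaf.stalk x₀) = _ at hg₀
  haveI := CDiv6.isDVR_of_coheight_one hX hx₀
  haveI : Ring.KrullDimLE 1 (X.presheaf.stalk x₀) := krullDimLE_of_coheight_le hx₀.le
  have hπ : Irreducible (X.presheaf.germ ⊤ x₀ trivial g) :=
    (IsDiscreteValuationRing.irreducible_iff_uniformizer _).2 hg₀
  have hgen : ∀ x : X, algebraMap (X.presheaf.stalk x) X.functionField (X.presheaf.germ ⊤ x trivial g) =
      X.presheaf.germ ⊤ (genericPoint X) trivial g := fun x =>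
    Ref1X.spR_germ (Ref1X.eta_le x) (show x ∈ (⊤ : X.Opens) from TopologicalSpace.Opens.mem_top x) g
  have hf0 : (X.presheaf.germ ⊤ (genericPoint X) trivial g : X.functionField) ≠ 0 := fun h0 =>
    hπ.ne_zero (Ref1X.spR_injective x₀ (((hgen x₀).trans h0).trans (map_zero _).symm))
  refine ⟨_, hf0, ?_, fun x hne' hx => ?_⟩
  · rw [Scheme.ord_eq_iff hx₀ hf0, ← hgen x₀]
    exact Ring.ordFrac_irreducible hπ
  · have hu := hgu x fun hsp => hne' (Ref1X.eq_of_specializes_of_coheight_one hsp hx (Ref1X.ne_of_coheight_one hx₀)).symm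
    rw [← hgen x]
    exact Ref1X.ord_units hx hu.unit

theorem hypersurfaces_of_principal (h : HasPrincipalPrimes X) (ζ : X) (hζ : Order.coheight ζ = 1) :
    ∃ g : Γ(X, ⊤),
      (∀ (x : X) (h : ζ ⤳ x), (maximalIdeal (X.presheaf.stalk ζ)).comap (X.presheaf.stalkSpecializes h).hom =
        Ideal.span {X.presheaf.germ ⊤ x trivial g}) ∧
      ∀ x : X, ¬ ζ ⤳ x → IsUnit (X.presheaf.germ ⊤ x trivial g) := by
  obtain ⟨hX, hp⟩ := h
  obtain ⟨f, hf, h1, h0⟩ := hp ζ hζ
  obtain ⟨g, hg⟩ := Ref1X.OD.exists_fn (U := ⊤) trivial f (fun y _ hy1 => Or.inr (by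
    by_cases he : y = ζ
    · subst he; omega
    · exact (h0 y he hy1).ge)) hX
  have hgen : ∀ x : X, algebraMap (X.presheaf.stalk x) X.functionField (X.presheaf.germ ⊤ x trivial g) = f :=
    fun x => (Ref1X.spR_germ (Ref1X.eta_le x) (show x ∈ (⊤ : X.Opens) from TopologicalSpace.Opens.mem_top x) g).trans hg
  refine ⟨g, fun x hx => ?_, fun x hx => ?_⟩
  · refine le_antisymm (fun b hb => ?_) ((Ideal.span_singleton_le_iff_mem _).2 ?_)
    · by_cases hb0 : b = 0
      · rw [hb0]; exact zero_mem _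
      have hib : algebraMap (X.presheaf.stalk x) X.functionField b ≠ 0 := fun h' =>
        hb0 (IsFractionRing.injective (X.presheaf.stalk x) X.functionField (h'.trans (map_zero _).symm))
      obtain ⟨c, hc⟩ := CDiv6.reg_of_forall_ord_nonneg hX (x := x) (div_ne_zero hib hf) fun z hz hz1 => by
        have h2 := Scheme.ord_mul (X := X) (x := z) (div_ne_zero hib hf) hf
        rw [div_mul_cancel₀ _ hf] at h2
        by_cases he : z = ζ
        · subst he
          have h3 : 1 ≤ Scheme.ord (algebraMap (X.presheaf.stalk x) X.functionField b) z :=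
            CDiv6.one_le_ord_toK hX hz hz1 hb0 hb
          omega
        · have h3 : 0 ≤ Scheme.ord (algebraMap (X.presheaf.stalk x) X.functionField b) z :=
            CDiv6.reg_ord_nonneg hib ⟨_, CDiv6.algebraMap_specializes hz b⟩
          have h4 := h0 z he hz1
          omega
      refine Ideal.mem_span_singleton'.2 ⟨c, IsFractionRing.injective (X.presheaf.stalk x) X.functionField ?_⟩
      rw [map_mul, hc, hgen, div_mul_cancel₀ _ hf]
    · show X.presheaf.germ ⊤ x trivial g ∈ (CDiv6.primeOf hx).asIdeal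
      by_contra hn
      have hne : X.presheaf.germ ⊤ x trivial g ≠ 0 := fun h' => hn (h' ▸ zero_mem _)
      have h2 := CDiv6.ord_toK_eq_zero hx hne hn
      rw [show (CDiv6.toK _ hne : X.functionField) = f from hgen x] at h2
      omega
  · obtain ⟨c, hc⟩ := CDiv6.reg_of_forall_ord_nonneg hX (x := x) (inv_ne_zero hf) fun z hz hz1 => by
      have h2 := Scheme.ord_mul (X := X) (x := z) (inv_ne_zero hf) hf
      rw [inv_mul_cancel₀ hf, Ref1X.OD.ord_one, h0 z (fun e => hx (e ▸ hz)) hz1] at h2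
      omega
    refine IsUnit.of_mul_eq_one c (IsFractionRing.injective (X.presheaf.stalk x) X.functionField ?_)
    rw [map_mul, hgen, hc, map_one, mul_inv_cancel₀ hf]

end Groth.Agent.Div21Lib
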