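import Groth.Agent.ParaFX.Punctured

/-!
# Factoriality from the punctured spectrum
-/

set_option autoImplicit false
set_option linter.style.haveILetI false

universe u

open CategoryTheory CategoryTheory.Limits AlgebraicGeometry TopologicalSpace Opposite IsLocalRing

namespace Groth.Agent.Div21Lib

open Groth.Agent.ParaFX

open Groth.Agent.AModX Groth.Agent.InvX

noncomputable section

variable {R : CommRingCat.{u}} [IsDomain R] (q : Ideal R)

local notation "X" => Spec R
local notation "K" => FractionRing R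
local notation "ι₀" => algebraMap R (FractionRing R)

variable [IsNoetherianRing R] [IsLocalRing R]

/-- If the sheaf of a saturated ideal is trivial off the closed point, the ideal is principal. -/
theorem exists_eq_span_of_saturated (hd : (2 : ℕ∞) ≤ LocCoh.depth R R) (hne : ∃ f ∈ maximalIdeal R, f ≠ 0)
    (hsat : ∀ a : R, (∀ f ∈ maximalIdeal R, f ≠ 0 → ∃ n : ℕ, f ^ n * a ∈ q) → a ∈ q)
    (φ : (idSheaf q).restrict (FEt.puncturedSpec R).ι ≅ Coh.structureModule (FEt.puncturedSpec R : Scheme.{u})) :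
    ∃ a, q = Ideal.span {a} := by
  set U := FEt.puncturedSpec R with hU
  set L := (idSheaf q).restrict U.ι with hL
  let z0 : Γ(idSheaf q, U.ι ''ᵁ ⊤) := (InvX.one φ.inv : Γ(L, ⊤))
  have hmem : ∀ f ∈ maximalIdeal R, bo f ≤ U := fun f hf x hx hxU =>
    hx (by rw [Set.mem_singleton_iff.1 hxU]; exact hf)
  have htop : ∀ f ∈ maximalIdeal R, bo f ≤ U.ι ''ᵁ ⊤ := fun f hf => by
    rw [Scheme.Opens.ι_image_top]; exact hmem f hf
  let s : ∀ f ∈ maximalIdeal R, Γ(idSheaf q, bo f) := fun f hf => res (idSheaf q) (htop f hf) z0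
  have hgenA : ∀ (f : R) (hf : f ∈ maximalIdeal R),
      Function.Bijective (fun r : Γ(X, bo f) => r • s f hf) := by
    intro f hf
    obtain ⟨W, hW⟩ : ∃ W : (U : Scheme.{u}).Opens, U.ι ''ᵁ W = bo f := ⟨U.ι ⁻¹ᵁ bo f, by
      rw [Scheme.Hom.image_preimage_eq_opensRange_inf, Scheme.Opens.opensRange_ι]
      exact inf_eq_right.2 (hmem f hf)⟩
    have key : ∀ (V : (Spec R).Opens) (hV : V ≤ U.ι ''ᵁ ⊤), U.ι ''ᵁ W = V →
        Function.Bijective (fun r : Γ(X, V) => r • res (idSheaf q) hV z0) := by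
      rintro V hV rfl
      have hb : Function.Bijective (φ.inv.app W) :=
        (ConcreteCategory.isIso_iff_bijective _).1 (Scheme.Modules.Hom.isIso_iff_isIso_app.1 inferInstance W)
      have e : (fun r : Γ(X, U.ι ''ᵁ W) => r • res (idSheaf q) hV z0) =
          fun r => (show Γ(idSheaf q, U.ι ''ᵁ W) from φ.inv.app W r) := by
        funext r
        refine Eq.symm ((InvX.app_eq_smul φ.inv (W := W) r).trans ?_)
        exact H23.Frame.restrict_smul U W r _
      rw [e]
      exact hb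
    exact key _ _ hW
  -- one element of the fraction field
  obtain ⟨f₁, hf₁, hf₁0⟩ := hne
  let x := ev q f₁ hf₁0 (s f₁ hf₁)
  have hsx : ∀ (f : R) (hf : f ∈ maximalIdeal R) (hf0 : f ≠ 0), ev q f hf0 (s f hf) = x := by
    intro f hf hf0
    have hp : f * f₁ ∈ maximalIdeal R := Ideal.mul_mem_right _ _ hf
    have h1 : bo (f * f₁) ≤ bo f := PrimeSpectrum.basicOpen_mul_le_left f f₁
    have h2 : bo (f * f₁) ≤ bo f₁ := PrimeSpectrum.basicOpen_mul_le_right f f₁
    have hne : f * f₁ ≠ 0 := mul_ne_zero hf0 hf₁0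
    have e1 : ev q (f * f₁) hne (s (f * f₁) hp) = ev q f hf0 (s f hf) := by
      rw [← ev_res f (f * f₁) hf0 hne h1]
      exact congrArg (ev q (f * f₁) hne) (res_res (M := idSheaf q) (htop f hf) h1 z0).symm
    have e2 : ev q (f * f₁) hne (s (f * f₁) hp) = x := by
      simp only [x]
      rw [← ev_res f₁ (f * f₁) hf₁0 hne h2]
      exact congrArg (ev q (f * f₁) hne) (res_res (M := idSheaf q) (htop f₁ hf₁) h2 z0).symm
    rw [← e1, e2]
  obtain ⟨a, ha⟩ := mem_range_of_locally hd x fun f hf hf0 => by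
    obtain ⟨n, b, -, hb⟩ := exists_num f hf0 (show Sec q f from s f hf)
    exact ⟨n, b, by rw [← hsx f hf hf0]; exact hb⟩
  have haq : a ∈ q := hsat a fun f hf hf0 => by
    obtain ⟨n, b, -, hb⟩ := exists_num f hf0 (show Sec q f from s f hf)
    refine ⟨n, ?_⟩
    rw [show f ^ n * a = b from IsFractionRing.injective R K (by rw [map_mul, map_pow, ha, ← hsx f hf hf0]; exact hb)]
    exact b.2
  refine ⟨a, le_antisymm (fun b hb => ?_) ((Ideal.span_singleton_le_iff_mem _).2 haq)⟩
  rw [Ideal.mem_span_singleton]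
  rcases eq_or_ne a 0 with rfl | ha0
  · obtain ⟨r, hr⟩ := (hgenA f₁ hf₁).2 (show Γ(idSheaf q, bo f₁) from toSec q f₁ ⟨b, hb⟩)
    have hs0 : s f₁ hf₁ = 0 := ev_injective f₁ hf₁0 (by
      rw [hsx f₁ hf₁ hf₁0, ← ha, map_zero]; exact (map_zero _).symm)
    simp only [hs0, smul_zero] at hr
    have := congrArg (ev q f₁ hf₁0) hr.symm
    rw [ev_toSec] at this
    change ι₀ b = ev q f₁ hf₁0 (0 : Sec q f₁) at this
    rw [map_zero, IsFractionRing.to_map_eq_zero_iff] at this
    rw [this]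
  refine dvd_of_locally hd (fun u v h => mul_left_cancel₀ ha0 h) fun f hf => ?_
  rcases eq_or_ne f 0 with rfl | hf0
  · exact ⟨1, by simp⟩
  obtain ⟨r, hr⟩ := (hgenA f hf).2 (show Γ(idSheaf q, bo f) from toSec q f ⟨b, hb⟩)
  obtain ⟨n, c, hc⟩ := smul_num f r
  refine ⟨n, c, IsFractionRing.injective R K ?_⟩
  have h1 : (algebraMap R Γ(X, bo f) c) • s f hf =
      (algebraMap R Γ(X, bo f) (f ^ n)) • (show Γ(idSheaf q, bo f) from toSec q f ⟨b, hb⟩) := by
    rw [← hc, mul_smul]
    exact congrArg _ hr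
  have h2 : c • (show Sec q f from s f hf) = f ^ n • toSec q f ⟨b, hb⟩ := h1
  have h3 := congrArg (ev q f hf0) h2
  rw [map_smul, map_smul, ev_toSec, hsx f hf hf0, ← ha, Algebra.smul_def, Algebra.smul_def, ← map_mul,
    ← map_mul] at h3
  rw [← h3, mul_comm]

end

end Groth.Agent.Div21Lib
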