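import Groth.Agent.Div21Lib.Normal
import Mathlib.RingTheory.Ideal.AssociatedPrime.Finiteness

/-! Descent to a normal base when the fibres in codimension one have no embedded points. -/

set_option autoImplicit false
set_option backward.isDefEq.respectTransparency false
set_option backward.isDefEq.respectTransparency.types false
set_option linter.style.haveILetI false
universe u

open CategoryTheory CategoryTheory.Limits AlgebraicGeometry TopologicalSpace IsLocalRing

noncomputable section

namespace Groth.Agent.Div21Lib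

/-- If `B/πB` has no embedded primes, membership in `π^m B` is tested at the minimal primes over `π`. -/
theorem mem_span_pow_of_minimal {B : Type u} [CommRing B] [IsNoetherianRing B] {π : B}
    (hnoemb : ∀ P : Ideal B, IsAssociatedPrime P (B ⧸ Ideal.span {π}) →
      ∀ P' : Ideal B, P'.IsPrime → π ∈ P' → P' ≤ P → P' = P) :
    ∀ (m : ℕ) {c : B}, (∀ P : Ideal B, P.IsPrime → π ∈ P →
        (∀ P' : Ideal B, P'.IsPrime → π ∈ P' → P' ≤ P → P' = P) → ∃ s ∉ P, π ^ m ∣ s * c) →
      π ∈ nonZeroDivisors B → π ^ m ∣ c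
  | 0, c, _, _ => by simp
  | m + 1, c, h, hπ => by
    obtain ⟨d, rfl⟩ := mem_span_pow_of_minimal hnoemb m (c := c) (fun P hP hπP hmin => by
      obtain ⟨s, hs, hd⟩ := h P hP hπP hmin
      exact ⟨s, hs, (pow_dvd_pow π m.le_succ).trans hd⟩) hπ
    suffices π ∣ d by rw [pow_succ]; exact mul_dvd_mul_left _ this
    by_contra hne
    have hx : Ideal.Quotient.mk (Ideal.span {π}) d ≠ 0 := fun h0 =>
      hne (Ideal.mem_span_singleton.1 (Ideal.Quotient.eq_zero_iff_mem.1 h0))
    obtain ⟨P, hP, hle⟩ := exists_le_isAssociatedPrime_of_isNoetherianRing B _ hx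
    haveI := hP.isPrime
    have hπP : π ∈ P := hle (by
      rw [Submodule.mem_colon_singleton, Submodule.mem_bot, Algebra.smul_def, Ideal.Quotient.algebraMap_eq,
        ← map_mul, Ideal.Quotient.eq_zero_iff_mem, Ideal.mem_span_singleton]
      exact dvd_mul_right _ _)
    obtain ⟨s, hs, e, he⟩ := h P inferInstance hπP (hnoemb P hP)
    refine hs (hle ?_)
    rw [Submodule.mem_colon_singleton, Submodule.mem_bot, Algebra.smul_def, Ideal.Quotient.algebraMap_eq,
      ← map_mul, Ideal.Quotient.eq_zero_iff_mem, Ideal.mem_span_singleton]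
    refine ⟨e, (mul_cancel_left_mem_nonZeroDivisors ((nonZeroDivisors B).pow_mem hπ m)).1 ?_⟩
    calc π ^ m * (s * d) = s * (π ^ m * d) := mul_left_comm _ _ _
      _ = π ^ (m + 1) * e := he
      _ = π ^ m * (π * e) := by rw [pow_succ, mul_assoc]

variable {X Y : Scheme.{u}} (f : X ⟶ Y) (J : X.IdealSheafData) [IsLocallyNoetherian X] [IsLocallyNoetherian Y]

/-- An associated prime of `O_x/πO_x` gives an associated point of the fibre. -/
theorem exists_fibre_assPoint {y : Y} {π : Y.presheaf.stalk y} (hm : maximalIdeal (Y.presheaf.stalk y) = Ideal.span {π})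
    {x : X} (hx : f x = y) {x' : X} (h' : x' ⤳ x) (hx' : f x' = y)
    (hP : IsAssociatedPrime (CDiv6.primeOf h').asIdeal
      (X.presheaf.stalk x ⧸ Ideal.span {gm f (specializes_of_eq hx) π})) :
    ∃ z : ↥(f.fiber y), f.fiberι y z = x' ∧
      IsAssociatedPrime (maximalIdeal ((f.fiber y).presheaf.stalk z)) ((f.fiber y).presheaf.stalk z) := by
  obtain ⟨z, rfl⟩ : x' ∈ Set.range (f.fiberι y) := by rw [f.range_fiberι]; exact hx'
  refine ⟨z, rfl, ?_⟩
  obtain ⟨-, x₀, hx₀⟩ := isAssociatedPrime_iff.1 hP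
  obtain ⟨d, rfl⟩ := Ideal.Quotient.mk_surjective x₀
  set p := gm f (specializes_of_eq hx) π with hp
  let ψ := ((f.fiberι y).stalkMap z).hom
  have hψ : Function.Surjective ψ := (f.fiberι y).stalkMap_surjective z
  let σ := (X.presheaf.stalkSpecializes h').hom
  have hker : RingHom.ker ψ = Ideal.span {σ p} := by
    rw [FlatDvr.ker_stalkMap_fiberι, map_maximalIdeal_gm f hx', hm, Ideal.map_span, Set.image_singleton,
      show gm f (specializes_of_eq hx') π = σ p from ?_]
    rw [show gm f (specializes_of_eq hx') = gm f ((h'.map f.continuous).trans (specializes_of_eq hx)) from rfl,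
      gm_generize f h' (specializes_of_eq hx)]
    rfl
  have mem : ∀ b, b ∈ (CDiv6.primeOf h').asIdeal ↔ p ∣ b * d := fun b => by
    rw [hx₀, Submodule.mem_colon_singleton, Submodule.mem_bot, Algebra.smul_def, Ideal.Quotient.algebraMap_eq,
      ← map_mul, Ideal.Quotient.eq_zero_iff_mem, Ideal.mem_span_singleton]
  letI : Algebra (X.presheaf.stalk x) (X.presheaf.stalk (f.fiberι y z)) := σ.toAlgebra
  haveI := H23.StalkPrimes.isLocalization_primeOf h'
  have he : ψ (σ d) ≠ 0 := fun h0 => by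
    have h1 : σ d ∈ Ideal.span {σ p} := hker ▸ RingHom.mem_ker.2 h0
    rw [← Set.image_singleton, ← Ideal.map_span] at h1
    obtain ⟨⟨⟨i, hi⟩, ⟨s, hs⟩⟩, hts⟩ := (IsLocalization.mem_map_algebraMap_iff
      (CDiv6.primeOf h').asIdeal.primeCompl (X.presheaf.stalk (f.fiberι y z))).1 h1
    change algebraMap _ _ d * algebraMap _ _ s = algebraMap _ (X.presheaf.stalk (f.fiberι y z)) i at hts
    rw [← map_mul] at hts
    obtain ⟨⟨c, hc⟩, hci⟩ := (IsLocalization.eq_iff_exists (CDiv6.primeOf h').asIdeal.primeCompl _).1 hts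
    refine (CDiv6.primeOf h').asIdeal.primeCompl.mul_mem hc hs ((mem _).2 ?_)
    rw [mul_assoc, mul_comm s d, show c * (d * s) = c * i from hci]
    exact (Ideal.mem_span_singleton.1 hi).mul_left c
  haveI : IsNoetherianRing ((f.fiber y).presheaf.stalk z) := isNoetherianRing_of_surjective _ _ ψ hψ
  refine isAssociatedPrime_iff.2 ⟨inferInstance, ψ (σ d), le_antisymm (fun r hr => ?_) ?_⟩
  · rw [Submodule.mem_colon_singleton, Submodule.mem_bot, smul_eq_mul]
    obtain ⟨r, rfl⟩ := hψ r
    have hr' : r ∈ maximalIdeal (X.presheaf.stalk (f.fiberι y z)) := (IsLocalRing.mem_maximalIdeal _).2 fun hu =>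
      (IsLocalRing.mem_maximalIdeal _).1 hr (hu.map ψ)
    obtain ⟨b, s, rfl⟩ := IsLocalization.exists_mk'_eq (CDiv6.primeOf h').asIdeal.primeCompl r
    have hb : b ∈ (CDiv6.primeOf h').asIdeal :=
      (IsLocalization.AtPrime.mk'_mem_maximal_iff _ (CDiv6.primeOf h').asIdeal b s).1 hr'
    rw [← map_mul]
    refine RingHom.mem_ker.1 (hker ▸ ?_)
    rw [Ideal.mem_span_singleton]
    obtain ⟨e, he'⟩ := (mem b).1 hb
    refine (IsLocalization.map_units (X.presheaf.stalk (f.fiberι y z)) s).dvd_mul_left.1 ?_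
    rw [← mul_assoc, IsLocalization.mk'_spec']
    change σ p ∣ σ b * σ d
    rw [← map_mul, he', map_mul]
    exact dvd_mul_right _ _
  · refine IsLocalRing.le_maximalIdeal fun htop => he ?_
    have := Ideal.eq_top_iff_one _ |>.1 htop
    rwa [Submodule.mem_colon_singleton, Submodule.mem_bot, one_smul] at this

variable [Flat f] [Surjective f] (hY : Pi1.IsNormalScheme Y) (hJ : BlowUp.IsEffCartierIdeal J)
  (hη : ∀ η : Y, (∀ z : Y, z ⤳ η → z = η) → J.comap (f.fiberι η) = ⊤)

include hY hJ hη in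
/-- Descent at a point of dimension one from the orders along the components of the fibre. -/
theorem desc_dim_one_of_order (y : Y) (h : ringKrullDim (Y.presheaf.stalk y) = 1)
    (hfib : ∀ z z' : ↥(f.fiber y),
      IsAssociatedPrime (maximalIdeal ((f.fiber y).presheaf.stalk z)) ((f.fiber y).presheaf.stalk z) →
      IsAssociatedPrime (maximalIdeal ((f.fiber y).presheaf.stalk z')) ((f.fiber y).presheaf.stalk z') →
      z' ⤳ z → z' = z)
    (n : ℕ)
    (hn : ∀ t : Y.presheaf.stalk y, maximalIdeal (Y.presheaf.stalk y) = Ideal.span {t} →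
      ∀ (x : X) (hx : f x = y), (∀ z : X, f z = y → z ⤳ x → z = x) →
        stI J x = Ideal.span {gm f (specializes_of_eq hx) t ^ n}) :
    ∃ I, Desc f J y I := by
  haveI := (hY y).1
  haveI := (hY y).2
  haveI := CDiv6.isDVR_of_dim_eq_one _ h
  obtain ⟨π, hπ⟩ := IsDiscreteValuationRing.exists_irreducible (Y.presheaf.stalk y)
  have hm := hπ.maximalIdeal_eq
  have hπm : π ∈ maximalIdeal (Y.presheaf.stalk y) := hm ▸ Ideal.mem_span_singleton_self π
  refine ⟨Ideal.span {π ^ n}, ⟨π ^ n, (nonZeroDivisors _).pow_mem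
    (mem_nonZeroDivisors_iff_ne_zero.2 hπ.ne_zero) _, rfl⟩, fun x hx => ?_⟩
  rw [Ideal.map_span, Set.image_singleton, map_pow]
  set p := gm f (specializes_of_eq hx) π with hp
  have hreg : p ∈ nonZeroDivisors (X.presheaf.stalk x) := by
    letI := (gm f (specializes_of_eq hx)).toAlgebra
    haveI : Module.Flat (Y.presheaf.stalk y) (X.presheaf.stalk x) := flat_gm f hx
    exact mem_nonZeroDivisors_iff_right.2 fun z hz => (IsSMulRegular.of_flat (S := X.presheaf.stalk x)
      (show IsSMulRegular (Y.presheaf.stalk y) π from fun a b hab => mul_left_cancel₀ hπ.ne_zero hab))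
      (show algebraMap _ _ π * z = algebraMap _ _ π * 0 by rw [mul_zero, mul_comm]; exact hz)
  have hov : ∀ (x' : X) (h' : x' ⤳ x), p ∈ (CDiv6.primeOf h').asIdeal → f x' = y := fun x' h' hmem => by
    by_contra hne
    have hxy : f x' ⤳ y := (h'.map f.continuous).trans (specializes_of_eq hx)
    refine (CDiv6.mem_primeOf h' p).1 hmem ?_
    have e : (X.presheaf.stalkSpecializes h').hom p = gm f hxy π := by
      rw [hp, show gm f hxy = gm f ((h'.map f.continuous).trans (specializes_of_eq hx)) from rfl,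
        gm_generize f h' (specializes_of_eq hx)]
      rfl
    show IsUnit ((X.presheaf.stalkSpecializes h').hom p)
    rw [e, gm_eq, RingHom.comp_apply]
    refine IsUnit.map _ ?_
    by_contra hu
    have h1 : maximalIdeal (Y.presheaf.stalk y) ≤ (CDiv6.primeOf hxy).asIdeal := by
      rw [hm, Ideal.span_singleton_le_iff_mem, CDiv6.mem_primeOf]
      exact hu
    have h2 : CDiv6.primeOf hxy = closedPoint (Y.presheaf.stalk y) := PrimeSpectrum.ext
      (le_antisymm (IsLocalRing.le_maximalIdeal (Ideal.IsPrime.ne_top inferInstance)) h1)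
    refine hne ?_
    rw [← CDiv6.fromSpecStalk_primeOf hxy, h2]
    exact Scheme.fromSpecStalk_closedPoint
  have hsp : ∀ (x' : X) (h' : x' ⤳ x) (hx' : f x' = y),
      gm f (specializes_of_eq hx') π = (X.presheaf.stalkSpecializes h').hom p := fun x' h' hx' => by
    rw [show gm f (specializes_of_eq hx') = gm f ((h'.map f.continuous).trans (specializes_of_eq hx)) from rfl,
      gm_generize f h' (specializes_of_eq hx)]
    rfl
  have hnoemb : ∀ P : Ideal (X.presheaf.stalk x), IsAssociatedPrime P (X.presheaf.stalk x ⧸ Ideal.span {p}) →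
      ∀ P' : Ideal (X.presheaf.stalk x), P'.IsPrime → p ∈ P' → P' ≤ P → P' = P := by
    intro P hP P' hP' hpP' hle
    haveI := hP.isPrime
    haveI := hP'
    obtain ⟨Q, hQ, hQP'⟩ := Ideal.exists_minimalPrimes_le (show Ideal.span {p} ≤ P' from
      (Ideal.span_singleton_le_iff_mem _).2 hpP')
    haveI := hQ.1.1
    have hQa : IsAssociatedPrime Q (X.presheaf.stalk x ⧸ Ideal.span {p}) := by
      apply Module.associatedPrimes.minimalPrimes_annihilator_subset_associatedPrimes
      rwa [Ideal.annihilator_quotient]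
    obtain ⟨xP, hxP, rfl⟩ := H23.StalkPrimes.exists_point P
    obtain ⟨xQ, hxQ, rfl⟩ := H23.StalkPrimes.exists_point Q
    have hQp : p ∈ (CDiv6.primeOf hxQ).asIdeal := hQ.1.2 (Ideal.mem_span_singleton_self p)
    obtain ⟨z, hz, hza⟩ := exists_fibre_assPoint f hm hx hxP (hov _ hxP (hle hpP')) hP
    obtain ⟨z', hz', hza'⟩ := exists_fibre_assPoint f hm hx hxQ (hov _ hxQ hQp) hQa
    have hs : z' ⤳ z := by
      rw [← (f.fiberι y).isEmbedding.isInducing.specializes_iff, hz, hz']
      exact (H23.StalkPrimes.primeOf_le_iff hxP hxQ).1 (hQP'.trans hle)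
    have := hfib z z' hza hza' hs
    subst this
    rw [hz'] at hz
    subst hz
    exact le_antisymm hle hQP'
  obtain ⟨g, hg, hgJ⟩ := exists_stI_generator hJ x
  have hrad : p ∈ (Ideal.span {g}).radical := hgJ ▸ mem_radical_stI f J hη h hπm hx
  obtain ⟨N, hN⟩ := hrad
  obtain ⟨g', hg'⟩ := Ideal.mem_span_singleton.1 hN
  have hg'reg : g' ∈ nonZeroDivisors (X.presheaf.stalk x) :=
    (mul_mem_nonZeroDivisors.1 (hg' ▸ (nonZeroDivisors _).pow_mem hreg N)).2
  have hmin : ∀ P : Ideal (X.presheaf.stalk x), P.IsPrime → p ∈ P →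
      (∀ P' : Ideal (X.presheaf.stalk x), P'.IsPrime → p ∈ P' → P' ≤ P → P' = P) →
      (∃ s ∉ P, p ^ n ∣ s * g) ∧ ∃ s ∉ P, g ∣ s * p ^ n := by
    intro P hP hpP hPmin
    obtain ⟨x', h', rfl⟩ := H23.StalkPrimes.exists_point P
    have hx' := hov x' h' hpP
    have hmax : ∀ z : X, f z = y → z ⤳ x' → z = x' := fun z hz hzx => by
      refine H23.StalkPrimes.primeOf_inj (hzx.trans h') h' (hPmin _ inferInstance ?_
        ((H23.StalkPrimes.primeOf_le_iff h' (hzx.trans h')).2 hzx))
      rw [CDiv6.mem_primeOf]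
      intro hu
      haveI := isLocalHom_gm f hz
      refine (IsLocalRing.mem_maximalIdeal π).1 hπm (isUnit_of_map_unit (gm f (specializes_of_eq hz)) π ?_)
      rw [hsp z (hzx.trans h') hz]
      exact hu
    have h1 := hn π hm x' hx' hmax
    rw [← stI_generize J h', hgJ, Ideal.map_span, Set.image_singleton, hsp x' h' hx', ← map_pow] at h1
    letI := (X.presheaf.stalkSpecializes h').hom.toAlgebra
    haveI := H23.StalkPrimes.isLocalization_primeOf h'
    have key : ∀ a b : X.presheaf.stalk x,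
        algebraMap _ (X.presheaf.stalk x') a ∣ algebraMap _ (X.presheaf.stalk x') b →
        ∃ s ∉ (CDiv6.primeOf h').asIdeal, a ∣ s * b := by
      intro a b ⟨w, hw⟩
      obtain ⟨c, ⟨s, hs⟩, rfl⟩ := IsLocalization.exists_mk'_eq (CDiv6.primeOf h').asIdeal.primeCompl w
      have h2 : algebraMap _ (X.presheaf.stalk x') (s * b) = algebraMap _ (X.presheaf.stalk x') (a * c) := by
        rw [map_mul, map_mul]
        refine (congrArg _ hw).trans ?_
        rw [mul_left_comm]
        exact congrArg _ (IsLocalization.mk'_spec' _ c (⟨s, hs⟩ : (CDiv6.primeOf h').asIdeal.primeCompl))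
      obtain ⟨⟨r, hr⟩, hr'⟩ := (IsLocalization.eq_iff_exists (CDiv6.primeOf h').asIdeal.primeCompl _).1 h2
      refine ⟨r * s, Submonoid.mul_mem _ hr hs, r * c, ?_⟩
      calc r * s * b = r * (s * b) := mul_assoc _ _ _
        _ = r * (a * c) := hr'
        _ = a * (r * c) := mul_left_comm _ _ _
    exact ⟨key _ _ (Ideal.span_singleton_le_span_singleton.1 h1.le),
      key _ _ (Ideal.span_singleton_le_span_singleton.1 h1.ge)⟩
  have d₁ : p ^ n ∣ g := mem_span_pow_of_minimal hnoemb n (fun P hP hpP hPmin => (hmin P hP hpP hPmin).1) hreg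
  have d₂ : p ^ N ∣ p ^ n * g' := mem_span_pow_of_minimal hnoemb N (fun P hP hpP hPmin => by
    obtain ⟨s, hs, hd⟩ := (hmin P hP hpP hPmin).2
    exact ⟨s, hs, by rw [hg', ← mul_assoc]; exact mul_dvd_mul_right hd g'⟩) hreg
  rw [hg'] at d₂
  obtain ⟨r, hr⟩ := d₂
  have d₃ : g ∣ p ^ n := ⟨r, (mul_cancel_right_mem_nonZeroDivisors hg'reg).1 (by rw [hr]; ring)⟩
  rw [hgJ]
  exact le_antisymm (Ideal.span_singleton_le_span_singleton.2 d₁) (Ideal.span_singleton_le_span_singleton.2 d₃)
    |>.symm

include hY in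
omit [IsLocallyNoetherian X] [Flat f] [Surjective f] in
theorem order_of_descended {K : Y.IdealSheafData} (hK : BlowUp.IsEffCartierIdeal K) (hKJ : K.comap f = J)
    (y : Y) (h : ringKrullDim (Y.presheaf.stalk y) = 1) :
    ∃ n : ℕ, ∀ t : Y.presheaf.stalk y, maximalIdeal (Y.presheaf.stalk y) = Ideal.span {t} →
      ∀ (x : X) (hx : f x = y), stI J x = Ideal.span {gm f (specializes_of_eq hx) t ^ n} := by
  haveI := (hY y).1
  haveI := (hY y).2
  haveI := CDiv6.isDVR_of_dim_eq_one _ h
  obtain ⟨π, hπ⟩ := IsDiscreteValuationRing.exists_irreducible (Y.presheaf.stalk y)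
  obtain ⟨a, ha, hKa⟩ := exists_stI_generator hK y
  obtain ⟨n, hn⟩ := IsDiscreteValuationRing.ideal_eq_span_pow_irreducible
    (show stI K y ≠ ⊥ by rw [hKa, Ne, Ideal.span_singleton_eq_bot]; exact nonZeroDivisors.ne_zero ha) hπ
  refine ⟨n, fun t ht x hx => ?_⟩
  rw [← Ideal.span_singleton_pow, ← hπ.maximalIdeal_eq, ht, Ideal.span_singleton_pow] at hn
  rw [← hKJ, stI_comap]
  subst hx
  rw [hn, gm_refl, Ideal.map_span, Set.image_singleton, map_pow]

end Groth.Agent.Div21Lib
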